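import Cfsg.Agent.OddOrderLocal.FrobAct

/-!
# P2: Frobenius action on an abelian section
-/

set_option autoImplicit false

namespace Cfsg.Agent.H851.PQ

open Cfsg.Agent.OddOrderLocal

section Act

variable {Γ : Type*} [Group Γ]

/-- An element of a finite group mapping a subgroup into itself normalises it. -/
theorem mem_normalizer_of_le [Finite Γ] {Q : Subgroup Γ} {x : Γ} (h : ∀ y ∈ Q, x * y * x⁻¹ ∈ Q) :
    x ∈ Subgroup.normalizer (Q : Set Γ) := by
  have hmap : Q.map (MulAut.conj x).toMonoidHom ≤ Q := by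
    rintro _ ⟨y, hy, rfl⟩
    exact h y hy
  have heq : Q.map (MulAut.conj x).toMonoidHom = Q := by
    apply Subgroup.eq_of_le_of_card_ge hmap
    rw [Subgroup.card_map_of_injective (MulAut.conj x).injective]
  rw [Subgroup.mem_normalizer_iff]
  intro y
  constructor
  · intro hy
    exact h y hy
  · intro hy
    rw [← heq] at hy
    obtain ⟨z, hz, hzy⟩ := hy
    have h1 : x * z * x⁻¹ = x * y * x⁻¹ := hzy
    have h2 : z = y := mul_left_cancel (mul_right_cancel h1)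
    rw [← h2]
    exact hz

/-- The action by conjugation of the common normaliser on the quotient `Q / D`. -/
def secAct (Q D : Subgroup Γ) [(D.subgroupOf Q).Normal] (A : Subgroup Γ)
    (hAQ : A ≤ Subgroup.normalizer (Q : Set Γ)) (hAD : A ≤ Subgroup.normalizer (D : Set Γ)) :
    A →* MulAut (Q ⧸ D.subgroupOf Q) where
  toFun a := QuotientGroup.congr (D.subgroupOf Q) (D.subgroupOf Q)
    (Q.normalizerMonoidHom ⟨a, hAQ a.2⟩) (by
      ext y
      constructor
      · rintro ⟨z, hz, rfl⟩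
        have hz' : (z : Γ) ∈ D := hz
        have h := (Subgroup.mem_normalizer_iff.mp (hAD a.2) z).mp hz'
        exact h
      · intro hy
        have hy' : (y : Γ) ∈ D := hy
        have hi : (a : Γ)⁻¹ * y * a ∈ D := by
          rw [Subgroup.mem_normalizer_iff.mp (hAD a.2)]
          have : (a : Γ) * ((a : Γ)⁻¹ * y * a) * (a : Γ)⁻¹ = y := by group
          rw [this]
          exact hy'
        have hiQ : (a : Γ)⁻¹ * y * a ∈ Q := by
          rw [Subgroup.mem_normalizer_iff.mp (hAQ a.2)]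
          have : (a : Γ) * ((a : Γ)⁻¹ * y * a) * (a : Γ)⁻¹ = y := by group
          rw [this]
          exact y.2
        refine ⟨⟨_, hiQ⟩, hi, ?_⟩
        apply Subtype.ext
        change (a : Γ) * ((a : Γ)⁻¹ * y * a) * (a : Γ)⁻¹ = y
        group)
  map_one' := by
    ext v
    obtain ⟨y, rfl⟩ := QuotientGroup.mk_surjective v
    change ((Q.normalizerMonoidHom ⟨(1 : A), _⟩ y : Q) : Q ⧸ D.subgroupOf Q) = _
    congr 1
    apply Subtype.ext
    change (1 : Γ) * y * (1 : Γ)⁻¹ = y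
    group
  map_mul' a b := by
    ext v
    obtain ⟨y, rfl⟩ := QuotientGroup.mk_surjective v
    change ((Q.normalizerMonoidHom ⟨((a * b : A) : Γ), _⟩ y : Q) : Q ⧸ D.subgroupOf Q) =
      ((Q.normalizerMonoidHom ⟨(a : Γ), _⟩ (Q.normalizerMonoidHom ⟨(b : Γ), _⟩ y) : Q) :
        Q ⧸ D.subgroupOf Q)
    congr 1
    apply Subtype.ext
    change ((a : Γ) * b) * y * ((a : Γ) * b)⁻¹ = (a : Γ) * ((b : Γ) * y * (b : Γ)⁻¹) * (a : Γ)⁻¹
    group

theorem secAct_mk (Q D : Subgroup Γ) [(D.subgroupOf Q).Normal] (A : Subgroup Γ)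
    (hAQ : A ≤ Subgroup.normalizer (Q : Set Γ)) (hAD : A ≤ Subgroup.normalizer (D : Set Γ))
    (a : A) (y : Q) :
    secAct Q D A hAQ hAD a (y : Q ⧸ D.subgroupOf Q) =
      ((⟨(a : Γ) * y * (a : Γ)⁻¹,
        (Subgroup.mem_normalizer_iff.mp (hAQ a.2) y).mp y.2⟩ : Q) : Q ⧸ D.subgroupOf Q) := rfl

end Act

/-- A non-trivial power of an element of prime order generates the same subgroup. -/
theorem mem_zpowers_of_prime {Γ : Type*} [Group Γ] {x r : Γ} {e : ℕ} (he : e.Prime)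
    (hxe : x ^ e = 1) (hx1 : x ≠ 1) (hr : r ∈ Subgroup.zpowers x) (hr1 : r ≠ 1) :
    x ∈ Subgroup.zpowers r := by
  have hord : orderOf x = e := by
    have : Fact e.Prime := ⟨he⟩
    exact orderOf_eq_prime hxe hx1
  have hfin : Finite (Subgroup.zpowers x) := by
    apply Nat.finite_of_card_ne_zero
    rw [Nat.card_zpowers, hord]
    exact he.ne_zero
  have h4 : Nat.card (Subgroup.zpowers r) ∣ Nat.card (Subgroup.zpowers x) :=
    Subgroup.card_dvd_of_le ((Subgroup.zpowers_le).mpr hr)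
  rw [Nat.card_zpowers x, hord] at h4
  rcases (Nat.dvd_prime he).mp h4 with h5 | h5
  · exfalso
    rw [Nat.card_zpowers] at h5
    exact hr1 (orderOf_eq_one_iff.mp h5)
  · have h6 : Subgroup.zpowers r = Subgroup.zpowers x := by
      apply Subgroup.eq_of_le_of_card_ge ((Subgroup.zpowers_le).mpr hr)
      rw [h5, Nat.card_zpowers, hord]
    rw [h6]
    exact Subgroup.mem_zpowers x

/-- P2 (Frobenius action on an abelian section). -/
theorem P2 {Γ : Type*} [Group Γ] [Finite Γ] (T Q D C : Subgroup Γ) (x : Γ) {e : ℕ}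
    (he : e.Prime) (hxe : x ^ e = 1)
    (hxT : ∀ y ∈ T, x * y * x⁻¹ ∈ T) (hxQ : ∀ y ∈ Q, x * y * x⁻¹ ∈ Q) (hxD : ∀ y ∈ D, x * y * x⁻¹ ∈ D)
    (hTQ : ∀ t ∈ T, ∀ y ∈ Q, t * y * t⁻¹ ∈ Q) (hTD : ∀ t ∈ T, ∀ y ∈ D, t * y * t⁻¹ ∈ D)
    (hDQ : D ≤ Q) (hQD : ∀ t ∈ Q, ∀ y ∈ D, t * y * t⁻¹ ∈ D)
    (hQQ : ∀ y ∈ Q, ∀ z ∈ Q, y * z * y⁻¹ * z⁻¹ ∈ D)
    (hcop : (Nat.card T).Coprime (Nat.card Q)) (heQ : ¬ e ∣ Nat.card Q) (heT : ¬ e ∣ Nat.card T)
    (hxfix : ∀ t ∈ T, x * t = t * x → t = 1)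
    (hTfix : ∀ y ∈ Q, (∀ t ∈ T, y⁻¹ * (t * y * t⁻¹) ∈ D) → y ∈ D)
    (hC : ∀ y, y ∈ C ↔ y ∈ Q ∧ y⁻¹ * (x * y * x⁻¹) ∈ D) :
    D.relIndex Q = (D.relIndex C) ^ e := by
  classical
  by_cases hx1 : x = 1
  · -- everything is trivial
    subst hx1
    have hT : ∀ t ∈ T, t = 1 := fun t ht => hxfix t ht (by rw [one_mul, mul_one])
    have hQD' : Q ≤ D := by
      intro y hy
      apply hTfix y hy
      intro t ht
      rw [hT t ht]
      have : y⁻¹ * (1 * y * 1⁻¹) = (1 : Γ) := by group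
      rw [this]
      exact D.one_mem
    have hCD : C ≤ D := fun y hy => hQD' ((hC y).mp hy).1
    rw [Subgroup.relIndex_eq_one.mpr hQD', Subgroup.relIndex_eq_one.mpr hCD, one_pow]
  have hord : orderOf x = e := by
    have : Fact e.Prime := ⟨he⟩
    exact orderOf_eq_prime hxe hx1
  have hnorm : (D.subgroupOf Q).Normal := by
    constructor
    intro y hy g
    exact hQD g g.2 y hy
  let R : Subgroup Γ := Subgroup.zpowers x
  have hRQ : R ≤ Subgroup.normalizer (Q : Set Γ) := by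
    rw [Subgroup.zpowers_le]; exact mem_normalizer_of_le hxQ
  have hRD : R ≤ Subgroup.normalizer (D : Set Γ) := by
    rw [Subgroup.zpowers_le]; exact mem_normalizer_of_le hxD
  have hRT : R ≤ Subgroup.normalizer (T : Set Γ) := by
    rw [Subgroup.zpowers_le]; exact mem_normalizer_of_le hxT
  have hTQ' : T ≤ Subgroup.normalizer (Q : Set Γ) := fun t ht => mem_normalizer_of_le (hTQ t ht)
  have hTD' : T ≤ Subgroup.normalizer (D : Set Γ) := fun t ht => mem_normalizer_of_le (hTD t ht)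
  let α : T →* MulAut (Q ⧸ D.subgroupOf Q) := secAct Q D T hTQ' hTD'
  let β : R →* MulAut (Q ⧸ D.subgroupOf Q) := secAct Q D R hRQ hRD
  let σ : R →* MulAut T := T.normalizerMonoidHom.comp (Subgroup.inclusion hRT)
  have hσ : ∀ (r : R) (y : T), ((σ r y : T) : Γ) = (r : Γ) * y * (r : Γ)⁻¹ := fun r y => rfl
  have hσf : ∀ r : R, r ≠ 1 → ∀ t : T, σ r t = t → t = 1 := by
    intro r hr t ht
    have h1 : (r : Γ) * t * (r : Γ)⁻¹ = t := by
      rw [← hσ]
      exact congrArg Subtype.val ht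
    have h2 : Commute (r : Γ) (t : Γ) := eq_mul_of_mul_inv_eq h1
    have h3 : x ∈ Subgroup.zpowers (r : Γ) :=
      mem_zpowers_of_prime he hxe hx1 r.2 (fun h => hr (Subtype.ext h))
    obtain ⟨m, hm⟩ := h3
    have h7 : Commute x (t : Γ) := by
      rw [← hm]
      exact h2.zpow_left m
    exact Subtype.ext (hxfix t t.2 h7)
  have hcomm : ∀ a b : Q ⧸ D.subgroupOf Q, a * b = b * a := by
    intro a b
    obtain ⟨y, rfl⟩ := QuotientGroup.mk_surjective a
    obtain ⟨z, rfl⟩ := QuotientGroup.mk_surjective b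
    rw [← QuotientGroup.mk_mul, ← QuotientGroup.mk_mul, QuotientGroup.eq]
    have h1 := hQQ (y : Γ)⁻¹ (Q.inv_mem y.2) (z : Γ)⁻¹ (Q.inv_mem z.2)
    -- `(yz)⁻¹ (zy) = z⁻¹ y⁻¹ z y`
    have h2 := hQQ (z : Γ)⁻¹ (Q.inv_mem z.2) (y : Γ)⁻¹ (Q.inv_mem y.2)
    change ((y * z : Q) : Γ)⁻¹ * ((z * y : Q) : Γ) ∈ D
    have h3 : ((y * z : Q) : Γ)⁻¹ * ((z * y : Q) : Γ) =
        (z : Γ)⁻¹ * (y : Γ)⁻¹ * ((z : Γ)⁻¹)⁻¹ * ((y : Γ)⁻¹)⁻¹ := by
      rw [Subgroup.coe_mul, Subgroup.coe_mul]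
      group
    rw [h3]
    exact h2
  let instC : CommGroup (Q ⧸ D.subgroupOf Q) :=
    { (inferInstance : Group (Q ⧸ D.subgroupOf Q)) with mul_comm := hcomm }
  have hcardM : Nat.card (Q ⧸ D.subgroupOf Q) ∣ Nat.card Q := by
    rw [← Subgroup.index_eq_card]
    exact Subgroup.index_dvd_card _
  have hcompat : ∀ (r : R) (t : T) (v : Q ⧸ D.subgroupOf Q),
      β r (α t v) = α (σ r t) (β r v) := by
    intro r t v
    obtain ⟨y, rfl⟩ := QuotientGroup.mk_surjective v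
    rw [secAct_mk, secAct_mk, secAct_mk, secAct_mk]
    congr 1
    apply Subtype.ext
    change (r : Γ) * ((t : Γ) * y * (t : Γ)⁻¹) * (r : Γ)⁻¹ =
      ((r : Γ) * t * (r : Γ)⁻¹) * ((r : Γ) * y * (r : Γ)⁻¹) * ((r : Γ) * t * (r : Γ)⁻¹)⁻¹
    group
  have hfix : ∀ m : Q ⧸ D.subgroupOf Q, (∀ t, α t m = m) → m = 1 := by
    intro m hm
    obtain ⟨y, rfl⟩ := QuotientGroup.mk_surjective m
    rw [QuotientGroup.eq_one_iff]
    apply hTfix y y.2
    intro t ht
    have h1 := hm ⟨t, ht⟩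
    rw [secAct_mk] at h1
    have h2 := QuotientGroup.eq.mp h1.symm
    exact h2
  have hRcard : Nat.card R = e := by rw [Nat.card_zpowers, hord]
  have hmain := (FrobAct.nilpotent_main σ hσf (Nat.card (Q ⧸ D.subgroupOf Q))
    (Q ⧸ D.subgroupOf Q) le_rfl α β hcompat (hcop.coprime_dvd_right hcardM)
    (by
      rw [hRcard]
      exact (((Nat.Prime.coprime_iff_not_dvd he).mpr heQ)).coprime_dvd_right hcardM)
    hfix).1
  rw [hRcard] at hmain
  have h1 : D.relIndex Q = Nat.card (Q ⧸ D.subgroupOf Q) := by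
    rw [Subgroup.relIndex, Subgroup.index_eq_card]
  -- fixed points
  have hCQ : C ≤ Q := fun y hy => ((hC y).mp hy).1
  have hDn : (D.subgroupOf C).Normal := by
    constructor
    intro y hy g
    exact hQD g (hCQ g.2) y hy
  have hfixedx : ∀ v : Q ⧸ D.subgroupOf Q,
      β ⟨x, Subgroup.mem_zpowers x⟩ v = v → v ∈ FrobAct.fixedPts β := by
    intro v hv r
    obtain ⟨n, hn⟩ := r.2
    have h2 : r = (⟨x, Subgroup.mem_zpowers x⟩ : R) ^ n := by
      apply Subtype.ext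
      rw [← hn]
      rfl
    rw [h2, map_zpow]
    have : β ⟨x, Subgroup.mem_zpowers x⟩ ∈ MulAction.stabilizer (MulAut (Q ⧸ D.subgroupOf Q)) v :=
      hv
    exact Subgroup.zpow_mem _ this n
  let f : C →* FrobAct.fixedPts β :=
    { toFun := fun y => ⟨((⟨y, hCQ y.2⟩ : Q) : Q ⧸ D.subgroupOf Q), by
        apply hfixedx
        rw [secAct_mk]
        symm
        rw [QuotientGroup.eq]
        exact ((hC y).mp y.2).2⟩
      map_one' := rfl
      map_mul' := fun y z => rfl }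
  have hfs : Function.Surjective f := by
    rintro ⟨v, hv⟩
    obtain ⟨y, rfl⟩ := QuotientGroup.mk_surjective v
    have h2 := hv ⟨x, Subgroup.mem_zpowers x⟩
    rw [secAct_mk] at h2
    have h3 := QuotientGroup.eq.mp h2.symm
    refine ⟨⟨y, (hC y).mpr ⟨y.2, h3⟩⟩, rfl⟩
  have hfk : f.ker = D.subgroupOf C := by
    ext y
    rw [MonoidHom.mem_ker, Subgroup.mem_subgroupOf]
    constructor
    · intro h
      have h2 := congrArg Subtype.val h
      have h3 : ((⟨y, hCQ y.2⟩ : Q) : Q ⧸ D.subgroupOf Q) = 1 := h2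
      rw [QuotientGroup.eq_one_iff] at h3
      exact h3
    · intro h
      apply Subtype.ext
      change ((⟨y, hCQ y.2⟩ : Q) : Q ⧸ D.subgroupOf Q) = 1
      rw [QuotientGroup.eq_one_iff]
      exact h
  have h2 : D.relIndex C = Nat.card (FrobAct.fixedPts β) := by
    rw [Subgroup.relIndex, ← hfk, Subgroup.index_ker]
    rw [MonoidHom.range_eq_top.mpr hfs, Subgroup.card_top]
  rw [h1, h2, hmain]

end Cfsg.Agent.H851.PQ
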