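import Cfsg.Agent.OddOrderLocal.ActFitting
import Cfsg.Agent.OddOrderLocal.CNBasic
import Cfsg.Agent.S0029

/-!
# P4, P5: two criteria for membership in the Fitting subgroup of a solvable group
-/

set_option autoImplicit false

namespace Cfsg.Agent.H851.PQ

/-- A subgroup all of whose `p`-elements lie in `C` lies in `C`. -/
theorem le_of_forall_sylow {G : Type*} [Group G] [Finite G] (A C : Subgroup G)
    (h : ∀ (p : ℕ), p.Prime → ∀ y ∈ A, (∃ n : ℕ, y ^ p ^ n = 1) → y ∈ C) : A ≤ C := by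
  rw [← Subgroup.subgroupOf_eq_top]
  refine Cfsg.Agent.Lib.Cores.eq_top_of_sylow_le fun p hp => ?_
  refine ⟨default, ?_⟩
  set P : Sylow p A := default
  intro y hy
  rw [Subgroup.mem_subgroupOf]
  apply h p hp.out y y.2
  obtain ⟨n, hn⟩ := P.isPGroup' ⟨y, hy⟩
  refine ⟨n, ?_⟩
  have := congrArg (fun z : (P : Subgroup A) => ((z : A) : G)) hn
  simpa using this

/-- Splitting off the `r`-part of an element. -/
theorem exists_pow_coprime {G : Type*} [Group G] [Finite G] {r : ℕ} (hr : r.Prime) (g : G) :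
    ∃ n : ℕ, ¬ r ∣ orderOf (g ^ r ^ n) := by
  obtain ⟨n, m, hm, hnm⟩ := Nat.exists_eq_pow_mul_and_not_dvd (orderOf_pos g).ne' r hr.ne_one
  refine ⟨n, ?_⟩
  intro h
  apply hm
  refine h.trans ?_
  apply orderOf_dvd_of_pow_eq_one
  rw [← pow_mul, ← hnm, pow_orderOf_eq_one]

theorem exists_pow_mem {G : Type*} [Group G] [Finite G] {r : ℕ} (hr : r.Prime) (g : G) (C : Subgroup G)
    (h : ∀ y ∈ Subgroup.zpowers g, ¬ r ∣ orderOf y → y ∈ C) : ∃ n : ℕ, g ^ r ^ n ∈ C := by
  obtain ⟨n, hn⟩ := exists_pow_coprime hr g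
  exact ⟨n, h _ (Subgroup.pow_mem _ (Subgroup.mem_zpowers g) _) hn⟩

/-- P4. -/
theorem P4 {K : Type*} [Group K] [Finite K] [Group.IsSolvable K]
    (h : ∀ q t : ℕ, q.Prime → t.Prime → q ≠ t →
      ∃ T : Sylow t K, ∀ x ∈ Cfsg.pCore q K, ∀ y ∈ T, x * y = y * x) : Group.IsNilpotent K := by
  rw [← Cfsg.Agent.Lib.Cores.fittingSubgroup_eq_top_iff, eq_top_iff]
  apply Cfsg.Agent.OddOrderLocal.ActFitting.le_fitting_of_acts ⊤ inferInstance
  intro r hr g _
  have hn : (Cfsg.pCore r K).Normal := Cfsg.Agent.Lib.Cores.pCore_normal r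
  apply exists_pow_mem hr.out
  intro y _ hry
  -- `y` has order prime to `r`
  have hle : Subgroup.zpowers y ≤ Subgroup.centralizer (Cfsg.pCore r K : Set K) := by
    apply le_of_forall_sylow
    intro p hp z hz hpz
    obtain ⟨n, hn'⟩ := hpz
    haveI := Fact.mk hp
    by_cases hpr : p = r
    · subst hpr
      have h1 : orderOf z ∣ p ^ n := orderOf_dvd_of_pow_eq_one hn'
      have h2 : orderOf z ∣ orderOf y := orderOf_dvd_of_mem_zpowers hz
      have h3 : orderOf z = 1 := by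
        have h4 : (p ^ n).Coprime (orderOf y) :=
          Nat.Coprime.pow_left _ ((Nat.Prime.coprime_iff_not_dvd hp).mpr hry)
        exact Nat.eq_one_of_dvd_coprimes h4 h1 h2
      rw [orderOf_eq_one_iff.mp h3]
      exact Subgroup.one_mem _
    · obtain ⟨T, hT⟩ := h r p hr.out hp (Ne.symm hpr)
      have hz1 : IsPGroup p (Subgroup.zpowers z) := by
        rw [IsPGroup.iff_card]
        rw [Nat.card_zpowers]
        obtain ⟨m, _, hm⟩ := (Nat.dvd_prime_pow hp).mp (orderOf_dvd_of_pow_eq_one hn')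
        exact ⟨m, hm⟩
      obtain ⟨S, hS⟩ := hz1.exists_le_sylow
      obtain ⟨g', hg'⟩ := MulAction.exists_smul_eq K T S
      have hzS : z ∈ (S : Subgroup K) := hS (Subgroup.mem_zpowers z)
      rw [← hg', Sylow.coe_subgroup_smul, Subgroup.mem_pointwise_smul_iff_inv_smul_mem] at hzS
      rw [Subgroup.mem_centralizer_iff]
      intro x hx
      have hx' : g'⁻¹ * x * g' ∈ Cfsg.pCore r K := by
        have := hn.conj_mem x hx g'⁻¹
        simpa using this
      have h5 := hT _ hx' _ hzS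
      have h6 : (MulAut.conj g')⁻¹ • z = g'⁻¹ * z * g' := by
        rw [← map_inv]
        simp [MulAut.smul_def]
      rw [h6] at h5
      have h7 : g'⁻¹ * (x * z) * g' = g'⁻¹ * (z * x) * g' := by
        calc g'⁻¹ * (x * z) * g' = g'⁻¹ * x * g' * (g'⁻¹ * z * g') := by group
          _ = g'⁻¹ * z * g' * (g'⁻¹ * x * g') := h5
          _ = _ := by group
      exact mul_left_cancel (mul_right_cancel h7)
  exact hle (Subgroup.mem_zpowers y)

/-- P5. -/
theorem P5 {G : Type*} [Group G] [Finite G] [Group.IsSolvable G] {q : ℕ} (hq : q.Prime)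
    (x : G) (hx : (QuotientGroup.mk' (Cfsg.fittingSubgroup G)) x ∈ Cfsg.pCore q (G ⧸ Cfsg.fittingSubgroup G))
    (h : ∀ r : ℕ, r.Prime → r ≠ q → ∀ m ∈ Cfsg.pCore r G,
      x * m * x⁻¹ * m⁻¹ ∈ (frattini (Cfsg.pCore r G)).map (Cfsg.pCore r G).subtype) :
    x ∈ Cfsg.fittingSubgroup G := by
  classical
  haveI := Fact.mk hq
  have hFn : (Cfsg.fittingSubgroup G).Normal := Cfsg.Agent.Lib.Cores.fittingSubgroup_normal
  have hMn : ∀ r : ℕ, (Cfsg.pCore r G).Normal := fun r => Cfsg.Agent.Lib.Cores.pCore_normal r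
  have hqn : (Cfsg.pCore q (G ⧸ Cfsg.fittingSubgroup G)).Normal := Cfsg.Agent.Lib.Cores.pCore_normal q
  let Φ : ℕ → Subgroup G := fun r => (frattini (Cfsg.pCore r G)).map (Cfsg.pCore r G).subtype
  have hΦn : ∀ r, (Φ r).Normal := by
    intro r
    have h1 : (frattini (Cfsg.pCore r G)).Characteristic := frattini_characteristic
    exact ConjAct.normal_of_characteristic_of_normal
  let Y : ℕ → Subgroup G := fun r =>
    (Subgroup.centralizer ((Cfsg.pCore r G).map (QuotientGroup.mk' (Φ r)) : Set (G ⧸ Φ r))).comap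
      (QuotientGroup.mk' (Φ r))
  have hYn : ∀ r, (Y r).Normal := by
    intro r
    have h1 : ((Cfsg.pCore r G).map (QuotientGroup.mk' (Φ r))).Normal :=
      Subgroup.Normal.map (hMn r) _ (QuotientGroup.mk'_surjective _)
    have h2 : (Subgroup.centralizer ((Cfsg.pCore r G).map (QuotientGroup.mk' (Φ r)) : Set (G ⧸ Φ r))).Normal :=
      inferInstance
    exact h2.comap _
  have hYmem : ∀ r y, y ∈ Y r ↔ ∀ m ∈ Cfsg.pCore r G, y * m * y⁻¹ * m⁻¹ ∈ Φ r := by
    intro r y
    constructor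
    · intro hy m hm
      have h1 : QuotientGroup.mk' (Φ r) m * QuotientGroup.mk' (Φ r) y =
          QuotientGroup.mk' (Φ r) y * QuotientGroup.mk' (Φ r) m :=
        (Subgroup.mem_centralizer_iff.mp hy) _ ⟨m, hm, rfl⟩
      have h2 : QuotientGroup.mk' (Φ r) (y * m * y⁻¹ * m⁻¹) = 1 := by
        rw [map_mul, map_mul, map_mul, ← h1, map_inv, map_inv]
        group
      exact (QuotientGroup.eq_one_iff _).mp h2
    · intro hy
      show QuotientGroup.mk' (Φ r) y ∈ Subgroup.centralizer _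
      rw [Subgroup.mem_centralizer_iff]
      rintro _ ⟨m, hm, rfl⟩
      have h2 : QuotientGroup.mk' (Φ r) (y * m * y⁻¹ * m⁻¹) = 1 :=
        (QuotientGroup.eq_one_iff _).mpr (hy m hm)
      rw [map_mul, map_mul, map_mul, map_inv, map_inv, mul_inv_eq_one, mul_inv_eq_iff_eq_mul] at h2
      exact h2.symm
  let Z : Subgroup G := (Cfsg.pCore q (G ⧸ Cfsg.fittingSubgroup G)).comap
      (QuotientGroup.mk' (Cfsg.fittingSubgroup G)) ⊓ ⨅ r : {r : ℕ // r.Prime ∧ r ≠ q}, Y r
  have hZn : Z.Normal := by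
    have h1 : (⨅ r : {r : ℕ // r.Prime ∧ r ≠ q}, Y r).Normal :=
      Subgroup.normal_iInf_normal fun r => hYn r
    have h2 : ((Cfsg.pCore q (G ⧸ Cfsg.fittingSubgroup G)).comap
      (QuotientGroup.mk' (Cfsg.fittingSubgroup G))).Normal := hqn.comap _
    exact inferInstance
  have hxZ : x ∈ Z := by
    refine Subgroup.mem_inf.mpr ⟨hx, ?_⟩
    rw [Subgroup.mem_iInf]
    intro r
    rw [hYmem]
    exact h r r.2.1 r.2.2
  refine Cfsg.Agent.OddOrderLocal.ActFitting.le_fitting_of_acts Z hZn ?_ hxZ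
  intro r hr g hg
  by_cases hrq : r = q
  · subst hrq
    obtain ⟨k, hk⟩ := Cfsg.Agent.Lib.Cores.pCore_isPGroup (G := G ⧸ Cfsg.fittingSubgroup G) r ⟨_, hg.1⟩
    have hk' : g ^ r ^ k ∈ Cfsg.fittingSubgroup G := by
      have h1 := congrArg Subtype.val hk
      have h2 : QuotientGroup.mk' (Cfsg.fittingSubgroup G) (g ^ r ^ k) = 1 := by
        rw [map_pow]; exact h1
      exact (QuotientGroup.eq_one_iff _).mp h2
    obtain ⟨n, hn⟩ := exists_pow_mem hr.out (g ^ r ^ k)
      (Subgroup.centralizer (Cfsg.pCore r G : Set G)) (by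
        intro y hy hry
        rw [Subgroup.mem_centralizer_iff]
        intro m hm
        have hyF : y ∈ Cfsg.fittingSubgroup G := (Subgroup.zpowers_le.mpr hk') hy
        have hmF : m ∈ Cfsg.fittingSubgroup G := Cfsg.Agent.Lib.Cores.pCore_le_fittingSubgroup r hm
        apply Cfsg.Agent.OddOrderLocal.CNBasic.commute_of_mem_of_coprime
          Cfsg.Agent.Lib.Cores.fittingSubgroup_isNilpotent hmF hyF
        obtain ⟨j, hj⟩ := Cfsg.Agent.Lib.Cores.pCore_isPGroup (G := G) r ⟨m, hm⟩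
        have hj' : m ^ r ^ j = 1 := congrArg Subtype.val hj
        have h1 : orderOf m ∣ r ^ j := orderOf_dvd_of_pow_eq_one hj'
        exact Nat.Coprime.coprime_dvd_left h1
          (Nat.Coprime.pow_left _ ((Nat.Prime.coprime_iff_not_dvd hr.out).mpr hry)))
    refine ⟨k + n, ?_⟩
    rw [pow_add, pow_mul]
    exact hn
  · apply exists_pow_mem hr.out
    intro y hy hry
    have hgY : g ∈ Y r := (Subgroup.mem_iInf.mp hg.2) ⟨r, hr.out, hrq⟩
    have hle := Cfsg.Agent.S0029.result (Subgroup.zpowers y) (Cfsg.pCore r G)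
      (by
        rw [Subgroup.normalizer_eq_top_iff.mpr (hMn r)]
        exact le_top)
      (by
        rw [Nat.card_zpowers]
        have h1 : IsPGroup r (frattini (Cfsg.pCore r G)) :=
          (Cfsg.Agent.Lib.Cores.pCore_isPGroup (G := G) r).to_subgroup _
        obtain ⟨n, hn⟩ := (IsPGroup.iff_card (p := r)).mp h1
        rw [hn]
        exact Nat.Coprime.pow_right _ ((Nat.Prime.coprime_iff_not_dvd hr.out).mpr hry).symm)
      (by
        intro a ha m hm
        have haY : a ∈ Y r := by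
          have h1 : y ∈ Y r := (Subgroup.zpowers_le.mpr hgY) hy
          exact (Subgroup.zpowers_le.mpr h1) ha
        exact (hYmem r a).mp haY m hm)
    exact hle (Subgroup.mem_zpowers y)

end Cfsg.Agent.H851.PQ
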