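import Cfsg.Agent.Nodes.Bruhat

/-!
# S3386: the order of a group with a root group datum is bounded

in terms of the rank, the order of the torus and the orders of the simple root groups.
-/

set_option autoImplicit false
set_option linter.unusedSectionVars false

namespace Cfsg.Agent.H851.SimsCount

open scoped Pointwise
open CoxeterSystem Cfsg.Agent.ChevalleyStructure.CoxeterGeom Cfsg.Agent.Tits.Roots
  Cfsg.Agent.Nodes.Reps Cfsg.Agent.Nodes.BNOf Cfsg.Agent.Nodes.Bruhat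

theorem card_sup_le {Y : Type*} [Group Y] [Finite Y] {H K : Subgroup Y}
    (hn : H ≤ Subgroup.normalizer (K : Set Y)) : Nat.card ↥(H ⊔ K) ≤ Nat.card H * Nat.card K := by
  rw [← Nat.card_prod]
  have h1 : ((H ⊔ K : Subgroup Y) : Set Y) = (H : Set Y) * (K : Set Y) := Subgroup.coe_mul_of_left_le_normalizer_right H K hn
  have h2 : ∀ x : ↥(H ⊔ K), ∃ a : ↥H × ↥K, (a.1 : Y) * a.2 = x := by
    rintro ⟨x, hx⟩
    rw [← SetLike.mem_coe, h1] at hx
    obtain ⟨a, ha, b, hb, e⟩ := hx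
    exact ⟨⟨⟨a, ha⟩, ⟨b, hb⟩⟩, e⟩
  choose f hf using h2
  refine Nat.card_le_card_of_injective f fun x y hxy => Subtype.ext ?_
  rw [← hf x, ← hf y, hxy]

variable {I W Y : Type*} [Fintype I] [DecidableEq I] [Group W] [Group Y] {M : CoxeterMatrix I}
  {cs : CoxeterSystem M W} {A : I → I → ℤ} {h : IsCartan M A} {p : ℕ} {T : Subgroup Y} {n : I → Y}
  {X : (I → ℤ) → Subgroup Y}

theorem card_cj (g : Y) (H : Subgroup Y) : Nat.card (cj g H) = Nat.card H :=
  (Nat.card_congr (H.equivMapOfInjective _ (MulAut.conj g).injective).toEquiv).symm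

/-- The join over an inversion set. -/
theorem card_inv [Finite W] [Finite Y] (R : RGD cs h p T n X) {c : ℕ} (hc : ∀ i, Nat.card ↥(X (sr i)) ≤ c) (w : W) :
    Nat.card ↥(RGD.Sup X (RGD.Inv cs h w)) ≤ c ^ cs.length w := by
  induction hn : cs.length w using Nat.strong_induction_on generalizing w with
  | _ k ih =>
  by_cases h1 : w = 1
  · subst h1
    have : RGD.Sup X (RGD.Inv cs h (1 : W)) = ⊥ := by
      rw [RGD.inv_one_eq, eq_bot_iff]
      exact RGD.Sup_le (fun z hz => absurd hz (by simp))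
    rw [this, Subgroup.card_bot]
    rw [cs.length_one] at hn
    rw [← hn, pow_zero]
  obtain ⟨i, hi⟩ : ∃ i, cs.IsLeftDescent w i := by
    have := cs.exists_leftDescent_of_ne_one h1
    exact this
  have hlt : cs.length (cs.simple i * w) < cs.length w := hi
  have hneg : rep cs h w⁻¹ (sr i) ≤ 0 := by
    refine nonpos_of_lt cs h w⁻¹ i ?_
    rw [cs.length_inv, ← cs.length_inv (w⁻¹ * cs.simple i), mul_inv_rev, inv_inv, cs.inv_simple]
    exact hlt
  have ih' := ih _ (hn ▸ hlt) (cs.simple i * w) rfl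
  have hmem : sr i ∈ RGD.Inv cs h w := (RGD.mem_inv_iff hneg).2 (Or.inl rfl)
  have hsup : RGD.Sup X (RGD.Inv cs h w) = X (sr i) ⊔ RGD.Sup X (RGD.Inv cs h w \ {sr i}) := by
    apply le_antisymm
    · refine RGD.Sup_le fun z hz => ?_
      by_cases hz0 : z = sr i
      · subst hz0; exact le_sup_left
      · exact le_trans (RGD.le_Sup (S := RGD.Inv cs h w \ {sr i}) ⟨hz, hz0⟩) le_sup_right
    · exact sup_le (RGD.le_Sup hmem) (RGD.Sup_mono Set.sdiff_subset)
  have hle : RGD.Sup X (RGD.Inv cs h w \ {sr i}) ≤ cj (n i) (RGD.Sup X (RGD.Inv cs h (cs.simple i * w))) := by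
    refine RGD.Sup_le ?_
    rintro z ⟨hz, hz0⟩
    have h2 := ((RGD.mem_inv_iff hneg).1 hz).resolve_left hz0
    have h3 := cj_mono (n i) (RGD.le_Sup (X := X) h2)
    rw [R.conj i _ h2.1, ← rep_mul_apply, cs.simple_mul_simple_self, map_one, Module.End.one_apply] at h3
    exact h3
  rw [hsup]
  have hnorm : X (sr i) ≤ Subgroup.normalizer (RGD.Sup X (RGD.Inv cs h w \ {sr i}) : Set Y) := by
    refine R.X_le_normalizer_diff (fun x hx => ⟨hx.1, hx.2.1⟩) (isRoot_sr cs h i) (sr_nonneg i) ?_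
    intro y hy hyi z hz
    refine ⟨⟨hz.1, RGD.nonneg_of_btwn (sr_nonneg i) hy.2.1 hz, RGD.nonpos_of_btwn hneg hy.2.2 (hz.act w⁻¹)⟩, ?_⟩
    exact RGD.ne_sr_of_btwn (sr_nonneg i) hy.1 hy.2.1 hyi hz
  refine le_trans (card_sup_le hnorm) ?_
  have h4 : Nat.card ↥(RGD.Sup X (RGD.Inv cs h w \ {sr i})) ≤ c ^ cs.length (cs.simple i * w) := by
    refine le_trans (Subgroup.card_le_of_le hle) ?_
    rw [card_cj]
    exact ih'
  have h5 : cs.length w = cs.length (cs.simple i * w) + 1 := by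
    have := cs.length_simple_mul w i
    omega
  rw [← hn, h5, pow_succ, mul_comm]
  exact Nat.mul_le_mul h4 (hc i)

theorem card_U [Finite W] [Finite Y] (R : RGD cs h p T n X) {c L : ℕ} (hc1 : 1 ≤ c)
    (hc : ∀ i, Nat.card ↥(X (sr i)) ≤ c) (hL : ∀ w, cs.length w ≤ L) :
    Nat.card ↥(RGD.Sup X (RGD.Pos cs h)) ≤ c ^ L := by
  obtain ⟨w, hw⟩ := RGD.exists_inv_eq_pos (cs := cs) (h := h)
  rw [← hw]
  exact le_trans (card_inv R hc w) (Nat.pow_le_pow_right hc1 (hL w))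

theorem card_B [Finite W] [Finite Y] (R : RGD cs h p T n X) {c L : ℕ} (hc1 : 1 ≤ c)
    (hc : ∀ i, Nat.card ↥(X (sr i)) ≤ c) (hT : Nat.card T ≤ c) (hL : ∀ w, cs.length w ≤ L) :
    Nat.card ↥(RGD.B cs h T X) ≤ c * c ^ L :=
  le_trans (card_sup_le R.T_le_normalizer_U) (Nat.mul_le_mul hT (card_U R hc1 hc hL))

theorem card_GG [Finite W] [Finite Y] (R : RGD cs h p T n X) {c L : ℕ} (hc1 : 1 ≤ c)
    (hc : ∀ i, Nat.card ↥(X (sr i)) ≤ c) (hT : Nat.card T ≤ c) (hL : ∀ w, cs.length w ≤ L)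
    (hG : GG cs h T X = ⊤) : Nat.card Y ≤ Nat.card W * (c * c ^ L) ^ 2 := by
  have hB := card_B R hc1 hc hT hL
  choose k hk using fun w => exists_rp cs R.nsys w
  have h1 : ∀ y : Y, ∃ a : W × (↥(RGD.B cs h T X) × ↥(RGD.B cs h T X)), (a.2.1 : Y) * k a.1 * a.2.2 = y := by
    intro y
    have hy : y ∈ GG cs h T X := by rw [hG]; trivial
    obtain ⟨w, b₁, hb₁, k', hk', b₂, hb₂, e⟩ := (mem_GG R).1 hy
    have h2 : (k w)⁻¹ * k' ∈ T := (hk w).unique hk'
    refine ⟨(w, (⟨b₁, hb₁⟩, ⟨(k w)⁻¹ * k' * b₂, mul_mem (RGD.T_le_B h2) hb₂⟩)), ?_⟩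
    rw [e]
    show b₁ * k w * ((k w)⁻¹ * k' * b₂) = b₁ * k' * b₂
    group
  choose f hf using h1
  have h2 : Nat.card Y ≤ Nat.card (W × (↥(RGD.B cs h T X) × ↥(RGD.B cs h T X))) := by
    refine Nat.card_le_card_of_injective f fun x y hxy => ?_
    rw [← hf x, ← hf y, hxy]
  rw [Nat.card_prod, Nat.card_prod] at h2
  refine le_trans h2 (Nat.mul_le_mul_left _ ?_)
  rw [sq]
  exact Nat.mul_le_mul hB hB

/-! ### uniform bound -/

omit [Fintype I] [DecidableEq I] in
theorem entry_le (h : IsCartan M A) (i j : I) : M i j ≤ 6 := by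
  by_cases hij : i = j
  · subst hij
    rw [M.diagonal]
    norm_num
  · rcases h.rel i j hij with h1 | h1 | h1 | h1 <;> omega

/-- The bound for a given matrix. -/
noncomputable def bd {l : ℕ} (c : ℕ) (M : CoxeterMatrix (Fin l)) : ℕ :=
  Nat.card M.Group * (c * c ^ sSup (Set.range M.toCoxeterSystem.length)) ^ 2

theorem finite_matrices (l : ℕ) : {M : CoxeterMatrix (Fin l) | ∀ i j, M i j ≤ 6}.Finite := by
  have h1 : Set.InjOn (fun (M : CoxeterMatrix (Fin l)) (i j : Fin l) => (Fin.ofNat 7 (M i j) : Fin 7))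
      {M : CoxeterMatrix (Fin l) | ∀ i j, M i j ≤ 6} := by
    intro M hM M' hM' e
    have h2 : ∀ i j, M i j = M' i j := by
      intro i j
      have h3 := congrArg Fin.val (congrFun (congrFun e i) j)
      simp only [Fin.ofNat] at h3
      have h4 := hM i j
      have h5 := hM' i j
      omega
    rcases M with ⟨M, _⟩
    rcases M' with ⟨M', _⟩
    have h6 : M = M' := by
      ext i j
      exact h2 i j
    subst h6
    rfl
  exact Set.Finite.of_finite_image (Set.toFinite _) h1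

theorem exists_bound (N c : ℕ) : ∃ F : ℕ, ∀ (l : ℕ), l ≤ N → ∀ (M : CoxeterMatrix (Fin l)) (A : Fin l → Fin l → ℤ)
    (h : IsCartan M A) {Y : Type*} [Group Y] [Finite Y] (p : ℕ) (T : Subgroup Y) (n : Fin l → Y)
    (X : (Fin l → ℤ) → Subgroup Y), RGD M.toCoxeterSystem h p T n X → Finite M.Group →
    GG M.toCoxeterSystem h T X = ⊤ → Nat.card T ≤ c → (∀ i, Nat.card ↥(X (sr i)) ≤ c) → Nat.card Y ≤ F := by
  have h1 : ∀ l : ℕ, ∃ F : ℕ, ∀ M : CoxeterMatrix (Fin l), (∀ i j, M i j ≤ 6) → bd c M ≤ F := by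
    intro l
    obtain ⟨F, hF⟩ := ((finite_matrices l).image (bd c)).bddAbove
    exact ⟨F, fun M hM => hF ⟨M, hM, rfl⟩⟩
  choose F hF using h1
  refine ⟨∑ l ∈ Finset.range (N + 1), F l, ?_⟩
  intro l hl M A h Y _ _ p T n X R hW hG hT hX
  have hT1 : 1 ≤ c := le_trans Nat.card_pos hT
  have hfin : (Set.range M.toCoxeterSystem.length).Finite := Set.finite_range _
  have h2 := card_GG R hT1 hX hT (L := sSup (Set.range M.toCoxeterSystem.length))
    (fun w => le_csSup hfin.bddAbove ⟨w, rfl⟩) hG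
  refine le_trans h2 (le_trans (hF l M (entry_le h)) ?_)
  exact Finset.single_le_sum (f := F) (fun _ _ => Nat.zero_le _) (Finset.mem_range.2 (by omega))

end Cfsg.Agent.H851.SimsCount
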