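import Cfsg.Agent.Tits.Roots

/-!
# S3386: spherical crystallographic diagrams

* `card_nb_le` : every node has at most three neighbours;
* `card_le` : if a group of diagram automorphisms preserves `J` and is transitive on its complement, then
  `|I| ≤ 4 |J| + 2`.
-/

set_option autoImplicit false
set_option linter.unusedSectionVars false

namespace Cfsg.Agent.H851.SimsDiag

open CoxeterSystem Cfsg.Agent.ChevalleyStructure.CoxeterGeom Cfsg.Agent.Tits.Roots

variable {I W : Type*} [Fintype I] [DecidableEq I] [Group W] {M : CoxeterMatrix I} (cs : CoxeterSystem M W)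
  {A : I → I → ℤ} (h : IsCartan M A)

/-- The neighbours of a node. -/
def nb (M : CoxeterMatrix I) (i : I) : Finset I := Finset.univ.filter fun j => j ≠ i ∧ M i j ≠ 2

omit [Fintype I] [DecidableEq I] in
theorem cartan_le {i j : I} (h : IsCartan M A) (hij : i ≠ j) (h2 : M i j ≠ 2) : A i j ≤ -1 := by
  have := cartan_neg h hij h2
  omega

include cs h in
theorem card_nb_le [Finite W] (i : I) : (nb M i).card ≤ 3 := by
  by_contra hcon
  push Not at hcon
  let x : I → ℤ := fun k => if k = i then 2 else if k ∈ nb M i then 1 else 0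
  have hx : 0 ≤ x := by
    intro k
    show (0 : ℤ) ≤ if k = i then 2 else if k ∈ nb M i then 1 else 0
    split_ifs <;> norm_num
  have hxi : x i = 2 := if_pos rfl
  have hx0 : x ≠ 0 := fun h0 => by
    have := congrFun h0 i
    rw [hxi] at this
    exact absurd this (by norm_num)
  have := Fintype.ofFinite W
  obtain ⟨k, hk, hk'⟩ := Tits.Roots.exists_pairing_pos cs h hx hx0
  have hmem : ∀ {j}, j ∈ nb M i ↔ j ≠ i ∧ M i j ≠ 2 := by
    intro j
    unfold nb
    simp
  unfold pairing at hk'
  by_cases hki : k = i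
  · subst hki
    rw [← Finset.sum_erase_add _ _ (Finset.mem_univ k)] at hk'
    have h1 : ∑ j ∈ Finset.univ.erase k, A k j * x j ≤ ∑ j ∈ Finset.univ.erase k, (if j ∈ nb M k then (-1 : ℤ) else 0) := by
      refine Finset.sum_le_sum fun j hj => ?_
      have hj' : j ≠ k := (Finset.mem_erase.1 hj).1
      by_cases hj2 : j ∈ nb M k
      · have h3 : x j = 1 := by
          show (if j = k then (2 : ℤ) else if j ∈ nb M k then 1 else 0) = 1
          rw [if_neg hj', if_pos hj2]
        rw [if_pos hj2, h3, mul_one]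
        exact cartan_le h (Ne.symm hj') (hmem.1 hj2).2
      · have h3 : x j = 0 := by
          show (if j = k then (2 : ℤ) else if j ∈ nb M k then 1 else 0) = 0
          rw [if_neg hj', if_neg hj2]
        rw [if_neg hj2, h3, mul_zero]
    have h2 : ∑ j ∈ Finset.univ.erase k, (if j ∈ nb M k then (-1 : ℤ) else 0) = -((nb M k).card : ℤ) := by
      rw [← Finset.sum_filter, Finset.sum_const]
      have : (Finset.univ.erase k).filter (fun j => j ∈ nb M k) = nb M k := by
        ext j
        simp only [Finset.mem_filter, Finset.mem_erase, Finset.mem_univ, and_true]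
        exact ⟨fun h3 => h3.2, fun h3 => ⟨(hmem.1 h3).1, h3⟩⟩
      rw [this]
      simp
    rw [hxi, h.diag] at hk'
    omega
  · have hkn : k ∈ nb M i := by
      by_contra h1
      have : x k = 0 := by
        show (if k = i then (2 : ℤ) else if k ∈ nb M i then 1 else 0) = 0
        rw [if_neg hki, if_neg h1]
      omega
    have hxk : x k = 1 := by
      show (if k = i then (2 : ℤ) else if k ∈ nb M i then 1 else 0) = 1
      rw [if_neg hki, if_pos hkn]
    rw [← Finset.sum_erase_add _ _ (Finset.mem_univ k)] at hk'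
    have hik : i ∈ Finset.univ.erase k := Finset.mem_erase.2 ⟨Ne.symm hki, Finset.mem_univ i⟩
    rw [← Finset.sum_erase_add _ _ hik] at hk'
    have h1 : ∑ j ∈ (Finset.univ.erase k).erase i, A k j * x j ≤ 0 := by
      refine Finset.sum_nonpos fun j hj => ?_
      have h2 : j ≠ k := (Finset.mem_erase.1 (Finset.mem_erase.1 hj).2).1
      exact mul_nonpos_of_nonpos_of_nonneg (cartan_nonpos h (Ne.symm h2)) (hx j)
    have h2 : A k i ≤ -1 := by
      apply cartan_le h hki
      rw [M.symmetric]
      exact (hmem.1 hkn).2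
    rw [hxk, hxi, h.diag] at hk'
    omega

include cs h in
theorem exists_nb_le_one [Finite W] [Nonempty I] : ∃ i, (nb M i).card ≤ 1 := by
  by_contra hcon
  push Not at hcon
  let x : I → ℤ := fun _ => 1
  have hx : 0 ≤ x := fun _ => zero_le_one
  have hx0 : x ≠ 0 := fun h0 => by
    have := congrFun h0 (Classical.arbitrary I)
    exact absurd this one_ne_zero
  have := Fintype.ofFinite W
  obtain ⟨k, -, hk'⟩ := Tits.Roots.exists_pairing_pos cs h hx hx0
  have hmem : ∀ {j}, j ∈ nb M k ↔ j ≠ k ∧ M k j ≠ 2 := by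
    intro j
    unfold nb
    simp
  unfold pairing at hk'
  rw [← Finset.sum_erase_add _ _ (Finset.mem_univ k)] at hk'
  have h1 : ∑ j ∈ Finset.univ.erase k, A k j * x j ≤ ∑ j ∈ Finset.univ.erase k, (if j ∈ nb M k then (-1 : ℤ) else 0) := by
    refine Finset.sum_le_sum fun j hj => ?_
    have hj' : j ≠ k := (Finset.mem_erase.1 hj).1
    show A k j * 1 ≤ _
    rw [mul_one]
    by_cases hj2 : j ∈ nb M k
    · rw [if_pos hj2]
      exact cartan_le h (Ne.symm hj') (hmem.1 hj2).2
    · rw [if_neg hj2]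
      exact cartan_nonpos h (Ne.symm hj')
  have h2 : ∑ j ∈ Finset.univ.erase k, (if j ∈ nb M k then (-1 : ℤ) else 0) = -((nb M k).card : ℤ) := by
    rw [← Finset.sum_filter, Finset.sum_const]
    have : (Finset.univ.erase k).filter (fun j => j ∈ nb M k) = nb M k := by
      ext j
      simp only [Finset.mem_filter, Finset.mem_erase, Finset.mem_univ, and_true]
      exact ⟨fun h3 => h3.2, fun h3 => ⟨(hmem.1 h3).1, h3⟩⟩
    rw [this]
    simp
  have h3 : x k = 1 := rfl
  rw [h3, h.diag] at hk'
  have h4 := hcon k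
  omega

include cs h in
/-- The bound on the rank. -/
theorem card_le [Finite W] (hconn : ∀ J : Set I, J.Nonempty → J ≠ Set.univ → ∃ a ∈ J, ∃ b, b ∉ J ∧ M a b ≠ 2)
    (J : Finset I) (Γ : Set (Equiv.Perm I)) (hM : ∀ σ ∈ Γ, ∀ i j, M (σ i) (σ j) = M i j)
    (hJ : ∀ σ ∈ Γ, ∀ i ∈ J, σ i ∈ J) (ht : ∀ i j, i ∉ J → j ∉ J → ∃ σ ∈ Γ, σ i = j) :
    Fintype.card I ≤ 4 * J.card + 2 := by
  classical
  have hmem : ∀ {i j}, j ∈ nb M i ↔ j ≠ i ∧ M i j ≠ 2 := by
    intro i j
    unfold nb
    simp
  by_cases hJ0 : J = ∅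
  · subst hJ0
    rcases isEmpty_or_nonempty I with hI | hI
    · rw [Fintype.card_eq_zero]; omega
    obtain ⟨i₀, hi₀⟩ := exists_nb_le_one cs h
    have hall : ∀ i, (nb M i).card ≤ 1 := by
      intro i
      obtain ⟨σ, hσ, e⟩ := ht i i₀ (Finset.notMem_empty _) (Finset.notMem_empty _)
      refine le_trans (Finset.card_le_card_of_injOn σ ?_ σ.injective.injOn) hi₀
      intro j hj
      have hj' := hmem.1 (Finset.mem_coe.1 hj)
      refine Finset.mem_coe.2 (hmem.2 ⟨?_, ?_⟩)
      · rw [← e]
        exact fun h1 => hj'.1 (σ.injective h1)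
      · rw [← e, hM σ hσ]
        exact hj'.2
    have huniv : (insert i₀ (nb M i₀) : Finset I) = Finset.univ := by
      by_contra hne
      obtain ⟨a, ha, b, hb, hab⟩ := hconn (↑(insert i₀ (nb M i₀) : Finset I)) ⟨i₀, by simp⟩
        (fun h1 => hne (by rw [← Finset.coe_eq_univ]; exact h1))
      rw [Finset.mem_coe, Finset.mem_insert] at ha hb
      push Not at hb
      rcases ha with ha | ha
      · subst ha
        exact hb.2 (hmem.2 ⟨hb.1, hab⟩)
      · have ha' := hmem.1 ha
        have h1 : i₀ ∈ nb M a := hmem.2 ⟨Ne.symm ha'.1, by rw [M.symmetric]; exact ha'.2⟩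
        have h2 : b ∈ nb M a := hmem.2 ⟨fun h3 => hb.2 (h3 ▸ ha), hab⟩
        have h3 := Finset.card_le_one.1 (hall a) _ h1 _ h2
        exact hb.1 h3.symm
    rw [← Finset.card_univ, ← huniv]
    refine le_trans (Finset.card_insert_le _ _) ?_
    have := hall i₀
    omega
  · have hne : J.Nonempty := Finset.nonempty_iff_ne_empty.2 hJ0
    by_cases hJ1 : J = Finset.univ
    · rw [hJ1, Finset.card_univ]; omega
    obtain ⟨a, ha, b, hb, hab⟩ := hconn (J : Set I) hne (fun h1 => hJ1 (Finset.coe_eq_univ.1 h1))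
    rw [Finset.mem_coe] at ha hb
    have hcover : Finset.univ \ J ⊆ J.biUnion (nb M) := by
      intro b' hb'
      have hb'' : b' ∉ J := (Finset.mem_sdiff.1 hb').2
      obtain ⟨σ, hσ, rfl⟩ := ht b b' hb hb''
      refine Finset.mem_biUnion.2 ⟨σ a, hJ σ hσ a ha, hmem.2 ⟨fun h1 => hb'' (h1 ▸ hJ σ hσ a ha), ?_⟩⟩
      rw [hM σ hσ]
      exact hab
    have h1 : (Finset.univ \ J).card ≤ 3 * J.card := by
      refine le_trans (Finset.card_le_card hcover) (le_trans Finset.card_biUnion_le ?_)
      refine le_trans (Finset.sum_le_sum fun i _ => card_nb_le cs h i) ?_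
      rw [Finset.sum_const, smul_eq_mul, mul_comm]
    have h2 : (Finset.univ \ J).card = Fintype.card I - J.card := by
      rw [Finset.card_sdiff_of_subset (Finset.subset_univ J), Finset.card_univ]
    omega

end Cfsg.Agent.H851.SimsDiag
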