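import Mathlib
import Cfsg.Prelude.Def_KGroupFacts

/-!
# Definitions for S3386 (the Sims conjecture)

* `cjS g A` : the conjugate `g A g⁻¹`;
* `Cfg c p S A Q g` : the almost simple configuration left by the Thompson-Wielandt theorem: `S` is the socle,
  `A` a maximal subgroup not containing `S`, `g ∉ A`, `|A : A ∩ gAg⁻¹| ≤ c`, `Q = O_p(A)`, `C_A(Q) ≤ Q`, `|A : Q| ≤ c`,
  `p ≤ c`;
* `LinDeg N r S` : `S` has a faithful linear representation of degree at most `N` over a field of characteristic `r`.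
-/

set_option autoImplicit false

namespace Cfsg.Agent.H851.Sims

universe u

/-- The conjugate `g A g⁻¹`. -/
abbrev cjS {G : Type*} [Group G] (g : G) (A : Subgroup G) : Subgroup G := A.map (MulAut.conj g).toMonoidHom

/-- The almost simple, `p`-constrained configuration. -/
structure Cfg {G : Type*} [Group G] (c p : ℕ) (S A Q : Subgroup G) (g : G) : Prop where
  norm : S.Normal
  simple : IsSimpleGroup S
  nonab : ∃ a ∈ S, ∃ b ∈ S, a * b ≠ b * a
  cent : Subgroup.centralizer (S : Set G) = ⊥
  coatom : IsCoatom A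
  notle : ¬ S ≤ A
  notmem : g ∉ A
  idx : (cjS g A).relIndex A ≤ c
  prime : p.Prime
  ple : p ≤ c
  Qle : Q ≤ A
  Qnorm : A ≤ Subgroup.normalizer (Q : Set G)
  Qp : IsPGroup p Q
  Qcent : Subgroup.centralizer (Q : Set G) ⊓ A ≤ Q
  Qmax : ∀ N : Subgroup G, N ≤ A → A ≤ Subgroup.normalizer (N : Set G) → IsPGroup p N → N ≤ Q
  Qidx : Q.relIndex A ≤ c

/-- `S` has a faithful linear representation of degree at most `N` over a field of characteristic `r`. -/
def LinDeg (N r : ℕ) (S : Type*) [Group S] : Prop :=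
  ∃ (n : ℕ) (k : Type) (_ : Field k) (_ : CharP k r) (ρ : S →* Matrix.GeneralLinearGroup (Fin n) k),
    n ≤ N ∧ Function.Injective ρ

end Cfsg.Agent.H851.Sims
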