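import Cfsg.Agent.H851.Majorana

/-!
# Local computations for Sakuma's theorem

The product formulas around one axis `a` of a dihedral algebra generated by two Majorana axes.
-/

set_option autoImplicit false
open Cfsg Cfsg.Axial

namespace Cfsg.Agent.H851.Sak

open Cfsg.Agent.H851.Maj

variable {V : Type*} [AddCommGroup V] [Module ℝ V] {mul : V →ₗ[ℝ] V →ₗ[ℝ] V}
  {B : LinearMap.BilinForm ℝ V}

/-- **First local lemma.** For an axis `a` and any vector `b`, with `s = ab - (a+b)/32`: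
the vector `s` is fixed by the involution of `a`, and `a s` is known. -/
theorem local_one (hV : IsMajoranaAmbient mul B) {τ : V ≃ₗ[ℝ] V} {a b b' s : V} {x : ℝ}
    (h : IsMajoranaPair mul B τ a) (hn : B a a = 1) (hb' : b' = τ b) (hx : x = B a b)
    (hs : mul a b = s + (1 / 32 : ℝ) • (a + b)) :
    τ s = s ∧
      mul a s = (3 / 4 * x - 25 / 1024) • a + (7 / 2048 : ℝ) • (b + b') + (7 / 32 : ℝ) • s ∧
      (∀ β : V, β = (1 / 8 - 4 * x) • a + (1 / 16 : ℝ) • (b + b') + (4 : ℝ) • s →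
        B β β = B β b) := by
  obtain ⟨l, α, β, γ, hv, hα, hβ, hγ⟩ := pair_decomp h b
  have hl : x = l := by
    rw [hx, hv]
    exact decomp_coeff hV (pair_idem h) hn hα hβ hγ
  subst hl
  have hb2 : b' = x • a + α + β - γ := by
    rw [hb', hv]
    simp only [map_add, map_smul]
    rw [pair_self h, pair_zero h hα, pair_quarter h hβ, pair_neg h hγ]
    abel
  have haa := pair_idem h
  have hse : s = (31 / 32 * x - 1 / 32) • a + (-1 / 32 : ℝ) • α + (7 / 32 : ℝ) • β := by
    have h1 : s = mul a b - (1 / 32 : ℝ) • (a + b) := by rw [hs]; module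
    have h2 : mul a b = x • a + (1 / 4 : ℝ) • β + (1 / 32 : ℝ) • γ := by
      rw [hv]
      simp only [map_add, map_smul]
      rw [haa, hα, hβ, hγ]
      module
    rw [h1, h2, hv]
    module
  refine ⟨?_, ?_, ?_⟩
  · rw [hse]
    simp only [map_add, map_smul]
    rw [pair_self h, pair_zero h hα, pair_quarter h hβ]
  · rw [hb2, hv, hse]
    simp only [map_add, map_smul]
    rw [haa, hα, hβ]
    module
  · intro β₂ hβ₂'
    have hβ₂ : β₂ = β := by
      rw [hβ₂', hb2, hv, hse]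
      module
    rw [hβ₂]
    have ha1 : mul a a = (1 : ℝ) • a := by rw [one_smul]; exact haa
    have hα0 : mul a α = (0 : ℝ) • α := by rw [zero_smul]; exact hα
    have o1 : B β a = 0 := form_orth hV (by norm_num) hβ ha1
    have o2 : B β α = 0 := form_orth hV (by norm_num) hβ hα0
    have o3 : B β γ = 0 := form_orth hV (by norm_num) hβ hγ
    rw [hv]
    simp only [map_add, map_smul, o1, o2, o3]
    simp

/-- **Second local lemma**: the products `a t` and `s s`, by the fusion rules. -/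
theorem local_two (hV : IsMajoranaAmbient mul B) {τ : V ≃ₗ[ℝ] V} {a b b' c c' s t u : V} {x z : ℝ}
    (h : IsMajoranaPair mul B τ a) (hn : B a a = 1)
    (hbb : mul b b = b) (hbb' : mul b' b' = b')
    (hab : mul a b = s + (1 / 32 : ℝ) • (a + b)) (hab' : mul a b' = s + (1 / 32 : ℝ) • (a + b'))
    (has : mul a s = (3 / 4 * x - 25 / 1024) • a + (7 / 2048 : ℝ) • (b + b') + (7 / 32 : ℝ) • s)
    (hbs : mul b s = (3 / 4 * x - 25 / 1024) • b + (7 / 2048 : ℝ) • (a + c) + (7 / 32 : ℝ) • s)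
    (hbs' : mul b' s = (3 / 4 * x - 25 / 1024) • b' + (7 / 2048 : ℝ) • (a + c') + (7 / 32 : ℝ) • s)
    (ht : mul b b' = t + (1 / 32 : ℝ) • (b + b'))
    (hac : mul a c = u + (1 / 32 : ℝ) • (a + c)) (hac' : mul a c' = u + (1 / 32 : ℝ) • (a + c'))
    (hBβ : ∀ β : V, β = (1 / 8 - 4 * x) • a + (1 / 16 : ℝ) • (b + b') + (4 : ℝ) • s →
        B β β = 4 * x - 4 * x * x - (1 - z) / 16) :
    mul a t = (-32 / 3 * x * x + 5 / 3 * x - 1 / 24 * z - 127 / 3072) • a +
        (1 / 6 * x - 19 / 3072) • (b + b') + (7 / 6144 : ℝ) • (c + c') +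
        (32 / 3 * x - 19 / 48) • s + (7 / 96 : ℝ) • u ∧
      mul s s = (7 / 6 * x * x - 7 / 384 * x + 7 / 1536 * z - 7 / 98304) • a +
        (49 / 768 * x - 245 / 196608) • (b + b') + (49 / 196608 : ℝ) • (c + c') +
        (-5 / 12 * x - 13 / 1536) • s - (7 / 1536 : ℝ) • u + (7 / 2048 : ℝ) • t := by
  have haa := pair_idem h
  have hcm := hV.1
  have hba : mul b a = s + (1 / 32 : ℝ) • (a + b) := by rw [hcm b a, hab]
  have hba' : mul b' a = s + (1 / 32 : ℝ) • (a + b') := by rw [hcm b' a, hab']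
  have hsa : mul s a = (3 / 4 * x - 25 / 1024) • a + (7 / 2048 : ℝ) • (b + b') +
    (7 / 32 : ℝ) • s := by rw [hcm s a, has]
  have hsb : mul s b = (3 / 4 * x - 25 / 1024) • b + (7 / 2048 : ℝ) • (a + c) +
    (7 / 32 : ℝ) • s := by rw [hcm s b, hbs]
  have hsb' : mul s b' = (3 / 4 * x - 25 / 1024) • b' + (7 / 2048 : ℝ) • (a + c') +
    (7 / 32 : ℝ) • s := by rw [hcm s b', hbs']
  have ht' : mul b' b = t + (1 / 32 : ℝ) • (b + b') := by rw [hcm b' b, ht]
  set β : V := (1 / 8 - 4 * x) • a + (1 / 16 : ℝ) • (b + b') + (4 : ℝ) • s with hβdef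
  set α : V := (3 * x - 1 / 8) • a + (7 / 16 : ℝ) • (b + b') - (4 : ℝ) • s with hαdef
  have hα : mul a α = 0 := by
    rw [hαdef]
    simp only [map_add, map_sub, map_smul]
    rw [haa, hab, hab', has]
    module
  have hβ : mul a β = (1 / 4 : ℝ) • β := by
    rw [hβdef]
    simp only [map_add, map_smul]
    rw [haa, hab, hab', has]
    module
  have hBβ' : B β β = 4 * x - 4 * x * x - (1 - z) / 16 := hBβ β hβdef
  have f00 := fus00 h hα hα
  have f01 := fus04 h hα hβ
  have f11 := fus44 hV h hn hβ hβ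
  -- the product of `α` with `α + β`
  have hP : mul α (α + β) = (3 / 32 * x - 9 / 512) • a + (-93 / 64 * x + 143 / 512) • (b + b') +
      (-7 / 1024 : ℝ) • (c + c') + (3 * x - 1) • s + (7 / 16 : ℝ) • t := by
    have h1 : α + β = (1 / 2 : ℝ) • (b + b') - x • a := by
      rw [hαdef, hβdef]; module
    have h2 : mul α a = 0 := by rw [hcm, hα]
    rw [h1, map_sub, map_smul, map_smul, h2, smul_zero, sub_zero, hαdef]
    simp only [map_add, map_sub, map_smul, LinearMap.add_apply, LinearMap.sub_apply,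
      LinearMap.smul_apply]
    rw [hab, hab', hbb, hbb', ht, ht', hsb, hsb']
    module
  have hR : mul β (α + β) = (x * x - 5 / 32 * x + 9 / 512) • a +
      (91 / 64 * x - 7 / 512) • (b + b') + (7 / 1024 : ℝ) • (c + c') + (-5 * x + 1) • s +
      (1 / 16 : ℝ) • t := by
    have h1 : α + β = (1 / 2 : ℝ) • (b + b') - x • a := by
      rw [hαdef, hβdef]; module
    have h2 : mul β a = (1 / 4 : ℝ) • β := by rw [hcm, hβ]
    rw [h1, map_sub, map_smul, map_smul, h2, hβdef]
    simp only [map_add, map_smul, LinearMap.add_apply, LinearMap.smul_apply]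
    rw [hab, hab', hbb, hbb', ht, ht', hsb, hsb']
    module
  have hβα : mul β α = mul α β := hcm β α
  have hP1 : mul a (mul α (α + β)) = (1 / 4 : ℝ) • mul α β := by
    rw [map_add (mul α), map_add (mul a), f00, f01, zero_add]
  have hR1 : mul a (mul β (α + β)) = (1 / 4 : ℝ) • mul α β + (1 / 4 * B β β) • a := by
    rw [map_add (mul β), map_add (mul a), hβα, f01, f11]
  have hPa : mul a (mul α (α + β)) = (3 / 32 * x - 9 / 512) • a +
      (-93 / 64 * x + 143 / 512) • ((2 : ℝ) • s + (1 / 32 : ℝ) • ((2 : ℝ) • a + b + b')) +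
      (-7 / 1024 : ℝ) • ((2 : ℝ) • u + (1 / 32 : ℝ) • ((2 : ℝ) • a + c + c')) +
      (3 * x - 1) • ((3 / 4 * x - 25 / 1024) • a + (7 / 2048 : ℝ) • (b + b') +
        (7 / 32 : ℝ) • s) + (7 / 16 : ℝ) • mul a t := by
    rw [hP]
    simp only [map_add, map_smul]
    rw [haa, hab, hab', hac, hac', has]
    module
  have hRa : mul a (mul β (α + β)) = (x * x - 5 / 32 * x + 9 / 512) • a +
      (91 / 64 * x - 7 / 512) • ((2 : ℝ) • s + (1 / 32 : ℝ) • ((2 : ℝ) • a + b + b')) +
      (7 / 1024 : ℝ) • ((2 : ℝ) • u + (1 / 32 : ℝ) • ((2 : ℝ) • a + c + c')) +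
      (-5 * x + 1) • ((3 / 4 * x - 25 / 1024) • a + (7 / 2048 : ℝ) • (b + b') +
        (7 / 32 : ℝ) • s) + (1 / 16 : ℝ) • mul a t := by
    rw [hR]
    simp only [map_add, map_smul]
    rw [haa, hab, hab', hac, hac', has]
    module
  have hat : mul a t = (-32 / 3 * x * x + 5 / 3 * x - 1 / 24 * z - 127 / 3072) • a +
        (1 / 6 * x - 19 / 3072) • (b + b') + (7 / 6144 : ℝ) • (c + c') +
        (32 / 3 * x - 19 / 48) • s + (7 / 96 : ℝ) • u := by
    rw [hBβ'] at hR1
    rw [hPa] at hP1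
    rw [hRa] at hR1
    linear_combination (norm := module) (8 / 3 : ℝ) • hP1 - (8 / 3 : ℝ) • hR1
  refine ⟨hat, ?_⟩
  have hαβ : mul α β = (4 : ℝ) • mul a (mul α (α + β)) := by
    rw [hP1]
    module
  have hαα : mul α α = mul α (α + β) - mul α β := by
    rw [map_add (mul α)]
    abel
  have hαα2 : mul α α = ((3 * x - 1 / 8) * (3 * x - 1 / 8)) • a +
      ((3 * x - 1 / 8) * (7 / 8)) • ((2 : ℝ) • s + (1 / 32 : ℝ) • ((2 : ℝ) • a + b + b')) +
      (49 / 256 : ℝ) • (b + b' + (2 : ℝ) • t + (1 / 16 : ℝ) • (b + b')) -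
      (8 * (3 * x - 1 / 8)) • ((3 / 4 * x - 25 / 1024) • a + (7 / 2048 : ℝ) • (b + b') +
        (7 / 32 : ℝ) • s) -
      (7 / 2 : ℝ) • ((3 / 4 * x - 25 / 1024) • (b + b') +
        (7 / 2048 : ℝ) • ((2 : ℝ) • a + c + c') + (7 / 16 : ℝ) • s) + (16 : ℝ) • mul s s := by
    rw [hαdef]
    simp only [map_add, map_sub, map_smul, LinearMap.add_apply, LinearMap.sub_apply,
      LinearMap.smul_apply]
    rw [haa, hab, hab', hba, hba', has, hsa, hbb, hbb', ht, ht', hsb, hsb', hbs, hbs']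
    module
  rw [hαα, hαβ, hPa, hP, hat] at hαα2
  linear_combination (norm := module) (-1 / 16 : ℝ) • hαα2

end Cfsg.Agent.H851.Sak
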