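import Cfsg.Agent.H851.SakumaRel

/-!
# Sakuma's theorem: the linear relation and the two polynomial equations
-/

set_option autoImplicit false
open Cfsg Cfsg.Axial

namespace Cfsg.Agent.H851.Sak

open Cfsg.Agent.H851.Maj

variable {V : Type*} [AddCommGroup V] [Module ℝ V]
variable {mul : V →ₗ[ℝ] V →ₗ[ℝ] V} {B : LinearMap.BilinForm ℝ V} {a : ℤ → V}

theorem Seq.mul_s' (S : Seq mul B a) (i j k : ℤ) (hk : k = 2 * i - j) {s : V}
    (hs : sd mul a i j = s) {x : ℝ} (hx : B (a i) (a j) = x) :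
    mul (a i) s = (3 / 4 * x - 25 / 1024) • a i +
      (7 / 2048 : ℝ) • (a j + a k) + (7 / 32 : ℝ) • s := by
  subst hk hs hx
  exact S.mul_s i j

theorem Seq.form_beta' (S : Seq mul B a) (i j k : ℤ) (hk : k = 2 * i - j) {s : V}
    (hs : sd mul a i j = s) {x z : ℝ} (hx : B (a i) (a j) = x) (hz : B (a j) (a k) = z) (β : V)
    (hβ : β = (1 / 8 - 4 * x) • a i + (1 / 16 : ℝ) • (a j + a k) + (4 : ℝ) • s) :
    B β β = 4 * x - 4 * x * x - (1 - z) / 16 := by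
  subst hk hs hx hz
  exact S.form_beta i j β hβ

theorem mul_sd' (i j : ℤ) {s : V} (hs : sd mul a i j = s) :
    mul (a i) (a j) = s + (1 / 32 : ℝ) • (a i + a j) := by
  subst hs
  exact mul_sd i j

theorem Seq.form_s' (S : Seq mul B a) (i j : ℤ) {s : V} (hs : sd mul a i j = s) {x : ℝ}
    (hx : B (a i) (a j) = x) : B s (a i) = 31 / 32 * x - 1 / 32 := by
  subst hs hx
  exact S.form_s i j

theorem Seq.form_sd_refl (S : Seq mul B a) (k i j l i' j' l' : ℤ) (hi : i' = 2 * k - i)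
    (hj : j' = 2 * k - j) (hl : l' = 2 * k - l) :
    B (sd mul a i' j') (a l') = B (sd mul a i j) (a l) := by
  subst hi hj hl
  obtain ⟨τ, h, hτ⟩ := S.pair k
  have h1 : sd mul a (2 * k - i) (2 * k - j) = τ (sd mul a i j) := by
    unfold sd
    rw [map_sub, map_smul, map_add, pair_mul h, hτ, hτ]
  rw [h1, ← hτ, pair_form h]

/-- All the basic data of a dihedral sequence of axes. -/
structure Data (mul : V →ₗ[ℝ] V →ₗ[ℝ] V) (B : LinearMap.BilinForm ℝ V)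
    (a0 a1 am1 a2 am2 a3 s u t : V) (x y : ℝ) : Prop where
  amb : IsMajoranaAmbient mul B
  p0 : ∃ τ, IsMajoranaPair mul B τ a0
  p1 : ∃ τ, IsMajoranaPair mul B τ a1
  n0 : B a0 a0 = 1
  n1 : B a1 a1 = 1
  nm1 : B am1 am1 = 1
  n2 : B a2 a2 = 1
  nm2 : B am2 am2 = 1
  n3 : B a3 a3 = 1
  i0 : mul a0 a0 = a0
  i1 : mul a1 a1 = a1
  im1 : mul am1 am1 = am1
  i2 : mul a2 a2 = a2
  i3 : mul a3 a3 = a3
  m01 : mul a0 a1 = s + (1 / 32 : ℝ) • (a0 + a1)
  m0m1 : mul a0 am1 = s + (1 / 32 : ℝ) • (a0 + am1)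
  m10 : mul a1 a0 = s + (1 / 32 : ℝ) • (a1 + a0)
  m12 : mul a1 a2 = s + (1 / 32 : ℝ) • (a1 + a2)
  mm1m2 : mul am1 am2 = s + (1 / 32 : ℝ) • (am1 + am2)
  m23 : mul a2 a3 = s + (1 / 32 : ℝ) • (a2 + a3)
  m02 : mul a0 a2 = u + (1 / 32 : ℝ) • (a0 + a2)
  m0m2 : mul a0 am2 = u + (1 / 32 : ℝ) • (a0 + am2)
  m1m1 : mul a1 am1 = t + (1 / 32 : ℝ) • (a1 + am1)
  m13 : mul a1 a3 = t + (1 / 32 : ℝ) • (a1 + a3)
  s0 : mul a0 s = (3 / 4 * x - 25 / 1024) • a0 + (7 / 2048 : ℝ) • (a1 + am1) + (7 / 32 : ℝ) • s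
  s1 : mul a1 s = (3 / 4 * x - 25 / 1024) • a1 + (7 / 2048 : ℝ) • (a0 + a2) + (7 / 32 : ℝ) • s
  sm1 : mul am1 s = (3 / 4 * x - 25 / 1024) • am1 + (7 / 2048 : ℝ) • (a0 + am2) + (7 / 32 : ℝ) • s
  s2 : mul a2 s = (3 / 4 * x - 25 / 1024) • a2 + (7 / 2048 : ℝ) • (a1 + a3) + (7 / 32 : ℝ) • s
  u0 : mul a0 u = (3 / 4 * y - 25 / 1024) • a0 + (7 / 2048 : ℝ) • (a2 + am2) + (7 / 32 : ℝ) • u
  fs0 : B s a0 = 31 / 32 * x - 1 / 32
  fs1 : B s a1 = 31 / 32 * x - 1 / 32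
  fsm1 : B s am1 = 31 / 32 * x - 1 / 32
  fs2 : B s a2 = 31 / 32 * x - 1 / 32
  fsm2 : B s am2 = 31 / 32 * x - 1 / 32
  fs3 : B s a3 = 31 / 32 * x - 1 / 32
  fu0 : B u a0 = 31 / 32 * y - 1 / 32
  fu2 : B u a2 = 31 / 32 * y - 1 / 32
  fum2 : B u am2 = 31 / 32 * y - 1 / 32
  ft1 : B t a1 = 31 / 32 * y - 1 / 32
  ftm1 : B t am1 = 31 / 32 * y - 1 / 32
  ft3 : B t a3 = 31 / 32 * y - 1 / 32
  ftm2 : B t am2 = B t a2
  g01 : B a0 a1 = x
  g0m1 : B a0 am1 = x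
  g12 : B a1 a2 = x
  gm1m2 : B am1 am2 = x
  g23 : B a2 a3 = x
  g02 : B a0 a2 = y
  g0m2 : B a0 am2 = y
  g1m1 : B a1 am1 = y
  g13 : B a1 a3 = y
  g03 : B a0 a3 = B am1 a2
  g1m2 : B a1 am2 = B am1 a2
  b0 : ∀ β : V, β = (1 / 8 - 4 * x) • a0 + (1 / 16 : ℝ) • (a1 + am1) + (4 : ℝ) • s →
    B β β = 4 * x - 4 * x * x - (1 - y) / 16
  b1 : ∀ β : V, β = (1 / 8 - 4 * x) • a1 + (1 / 16 : ℝ) • (a0 + a2) + (4 : ℝ) • s →
    B β β = 4 * x - 4 * x * x - (1 - y) / 16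

theorem Seq.data (S : Seq mul B a) :
    Data mul B (a 0) (a 1) (a (-1)) (a 2) (a (-2)) (a 3) (sd mul a 0 1) (sd mul a 0 2)
      (sd mul a 1 (-1)) (B (a 0) (a 1)) (B (a 0) (a 2)) := by
  obtain ⟨e1, e2, e3, e4, e5, e6, e7, e8, e9⟩ := S.basic_s
  have hyz := S.y_eq_z
  set x : ℝ := B (a 0) (a 1) with hx
  set y : ℝ := B (a 0) (a 2) with hy
  have sy := S.amb.2.1
  -- inner products
  have g10 : B (a 1) (a 0) = x := sy _ _
  have g0m1 : B (a 0) (a (-1)) = x := S.f_refl 0 0 1 0 (-1) (by norm_num) (by norm_num)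
  have gm10 : B (a (-1)) (a 0) = x := by rw [sy, g0m1]
  have g12 : B (a 1) (a 2) = x := by
    rw [S.f_refl 1 1 0 1 2 (by norm_num) (by norm_num), g10]
  have g21 : B (a 2) (a 1) = x := by rw [sy, g12]
  have gm1m2 : B (a (-1)) (a (-2)) = x := by
    rw [S.f_refl (-1) (-1) 0 (-1) (-2) (by norm_num) (by norm_num), gm10]
  have gm2m1 : B (a (-2)) (a (-1)) = x := by rw [sy, gm1m2]
  have g23 : B (a 2) (a 3) = x := by
    rw [S.f_refl 2 2 1 2 3 (by norm_num) (by norm_num), g21]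
  have g32 : B (a 3) (a 2) = x := by rw [sy, g23]
  have g0m2 : B (a 0) (a (-2)) = y := S.f_refl 0 0 2 0 (-2) (by norm_num) (by norm_num)
  have g20 : B (a 2) (a 0) = y := sy _ _
  have gm20 : B (a (-2)) (a 0) = y := by rw [sy, g0m2]
  have gm11 : B (a (-1)) (a 1) = y := by rw [sy, hyz]
  have g13 : B (a 1) (a 3) = y := by
    rw [S.f_refl 1 1 (-1) 1 3 (by norm_num) (by norm_num), hyz]
  have g31 : B (a 3) (a 1) = y := by rw [sy, g13]
  have g03 : B (a 0) (a 3) = B (a (-1)) (a 2) := by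
    rw [sy (a 0) (a 3)]
    exact S.f_refl 1 (-1) 2 3 0 (by norm_num) (by norm_num)
  have g1m2 : B (a 1) (a (-2)) = B (a (-1)) (a 2) :=
    S.f_refl 0 (-1) 2 1 (-2) (by norm_num) (by norm_num)
  -- the vectors `u`, `t`
  have u1 : sd mul a 0 (-2) = sd mul a 0 2 := S.s_refl 0 2 (-2) (by norm_num)
  have u2 : sd mul a 2 0 = sd mul a 0 2 := S.sd_symm 2 0
  have u3 : sd mul a (-2) 0 = sd mul a 0 2 := by rw [S.sd_symm, u1]
  have t1 : sd mul a (-1) 1 = sd mul a 1 (-1) := S.sd_symm _ _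
  have t2 : sd mul a 1 3 = sd mul a 1 (-1) := S.s_refl 1 (-1) 3 (by norm_num)
  have t3 : sd mul a 3 1 = sd mul a 1 (-1) := by rw [S.sd_symm, t2]
  exact
    { amb := S.amb
      p0 := ⟨_, (S.pair 0).choose_spec.1⟩
      p1 := ⟨_, (S.pair 1).choose_spec.1⟩
      n0 := S.norm 0
      n1 := S.norm 1
      nm1 := S.norm (-1)
      n2 := S.norm 2
      nm2 := S.norm (-2)
      n3 := S.norm 3
      i0 := S.idem 0
      i1 := S.idem 1
      im1 := S.idem (-1)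
      i2 := S.idem 2
      i3 := S.idem 3
      m01 := mul_sd' 0 1 rfl
      m0m1 := mul_sd' 0 (-1) e1
      m10 := mul_sd' 1 0 e2
      m12 := mul_sd' 1 2 e3
      mm1m2 := mul_sd' (-1) (-2) e5
      m23 := mul_sd' 2 3 e7
      m02 := mul_sd' 0 2 rfl
      m0m2 := mul_sd' 0 (-2) u1
      m1m1 := mul_sd' 1 (-1) rfl
      m13 := mul_sd' 1 3 t2
      s0 := S.mul_s' 0 1 (-1) (by norm_num) rfl rfl
      s1 := S.mul_s' 1 0 2 (by norm_num) e2 g10
      sm1 := S.mul_s' (-1) 0 (-2) (by norm_num) e4 gm10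
      s2 := S.mul_s' 2 1 3 (by norm_num) e6 g21
      u0 := S.mul_s' 0 2 (-2) (by norm_num) rfl rfl
      fs0 := S.form_s' 0 1 rfl rfl
      fs1 := S.form_s' 1 0 e2 g10
      fsm1 := S.form_s' (-1) 0 e4 gm10
      fs2 := S.form_s' 2 1 e6 g21
      fsm2 := S.form_s' (-2) (-1) e8 gm2m1
      fs3 := S.form_s' 3 2 e9 g32
      fu0 := S.form_s' 0 2 rfl rfl
      fu2 := S.form_s' 2 0 u2 g20
      fum2 := S.form_s' (-2) 0 u3 gm20
      ft1 := S.form_s' 1 (-1) rfl hyz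
      ftm1 := S.form_s' (-1) 1 t1 gm11
      ft3 := S.form_s' 3 1 t3 g31
      ftm2 := by
        have h := S.form_sd_refl 0 (-1) 1 2 1 (-1) (-2) (by norm_num) (by norm_num) (by norm_num)
        rw [t1] at h
        exact h
      g01 := rfl
      g0m1 := g0m1
      g12 := g12
      gm1m2 := gm1m2
      g23 := g23
      g02 := rfl
      g0m2 := g0m2
      g1m1 := hyz
      g13 := g13
      g03 := g03
      g1m2 := g1m2
      b0 := S.form_beta' 0 1 (-1) (by norm_num) rfl rfl hyz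
      b1 := S.form_beta' 1 0 2 (by norm_num) e2 g10 rfl }

section

variable {a0 a1 am1 a2 am2 a3 s u t : V} {x y : ℝ}

/-- **The linear relation.** -/
theorem Data.rel (D : Data mul B a0 a1 am1 a2 am2 a3 s u t x y) :
    (am2 - a3) + (256 * x - 6) • (am1 - a2) +
      ((32768 * x * x - 2304 * x + 33 + 128 * y) / 7) • (a0 - a1) + (32 : ℝ) • (t - u) = 0 := by
  obtain ⟨τ0, h0⟩ := D.p0
  obtain ⟨τ1, h1⟩ := D.p1
  have c := D.amb.1
  have e0 := (local_two D.amb h0 D.n0 D.i1 D.im1 D.m01 D.m0m1 D.s0 D.s1 D.sm1 D.m1m1 D.m02 D.m0m2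
    D.b0).2
  have e1 := (local_two D.amb h1 D.n1 D.i0 D.i2 D.m10 D.m12 D.s1 D.s0 D.s2 D.m02 D.m1m1 D.m13
    D.b1).2
  rw [e0] at e1
  linear_combination (norm := module) (196608 / 49 : ℝ) • e1

/-- The product `a₀ t`. -/
theorem Data.t0 (D : Data mul B a0 a1 am1 a2 am2 a3 s u t x y) :
    mul a0 t = (-32 / 3 * x * x + 5 / 3 * x - 1 / 24 * y - 127 / 3072) • a0 +
        (1 / 6 * x - 19 / 3072) • (a1 + am1) + (7 / 6144 : ℝ) • (a2 + am2) +
        (32 / 3 * x - 19 / 48) • s + (7 / 96 : ℝ) • u := by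
  obtain ⟨τ0, h0⟩ := D.p0
  exact (local_two D.amb h0 D.n0 D.i1 D.im1 D.m01 D.m0m1 D.s0 D.s1 D.sm1 D.m1m1 D.m02 D.m0m2
    D.b0).1

theorem form_cyc (hV : IsMajoranaAmbient mul B) (p q r : V) :
    B (mul p q) r = B (mul p r) q := by
  rw [form_shift hV, hV.2.1]

/-- The remaining inner products of `t` and `u` with axes. -/
theorem Data.forms (D : Data mul B a0 a1 am1 a2 am2 a3 s u t x y) :
    B t a0 = 30 / 32 * x + 1 / 32 * y - 1 / 32 ∧ B t a2 = 30 / 32 * x + 1 / 32 * y - 1 / 32 ∧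
    B t am2 = 30 / 32 * x + 1 / 32 * y - 1 / 32 ∧
    B u a1 = 30 / 32 * x + 1 / 32 * y - 1 / 32 ∧ B u am1 = 30 / 32 * x + 1 / 32 * y - 1 / 32 ∧
    B u a3 = 30 / 32 * x + 1 / 32 * y - 1 / 32 := by
  have sy := D.amb.2.1
  have c := D.amb.1
  have cy := form_cyc D.amb
  have k1 : B t a0 = 30 / 32 * x + 1 / 32 * y - 1 / 32 := by
    have h1 := cy a1 am1 a0
    have f1 := sy a1 a0
    have f2 := sy am1 a0
    simp only [D.m1m1, D.m10, map_add, map_smul, LinearMap.add_apply, LinearMap.smul_apply,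
      smul_eq_mul, f1, f2, D.g01, D.g0m1, D.fsm1, D.g1m1] at h1
    linarith
  have k2 : B t a2 = 30 / 32 * x + 1 / 32 * y - 1 / 32 := by
    have h1 := cy a1 a3 a2
    have f2 := sy a3 a2
    simp only [D.m13, D.m12, map_add, map_smul, LinearMap.add_apply, LinearMap.smul_apply,
      smul_eq_mul, f2, D.g12, D.g23, D.fs3, D.g13] at h1
    linarith
  refine ⟨k1, k2, by rw [D.ftm2, k2], ?_, ?_, ?_⟩
  · have h1 := cy a0 a2 a1
    have f1 := sy a2 a1
    simp only [D.m02, D.m01, map_add, map_smul, LinearMap.add_apply, LinearMap.smul_apply,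
      smul_eq_mul, f1, D.g01, D.g02, D.fs2, D.g12] at h1
    linarith
  · have h1 := cy a0 am2 am1
    have f1 := sy am2 am1
    simp only [D.m0m2, D.m0m1, map_add, map_smul, LinearMap.add_apply, LinearMap.smul_apply,
      smul_eq_mul, f1, D.g0m1, D.g0m2, D.fsm2, D.gm1m2] at h1
    linarith
  · have h1 := cy a2 a0 a3
    have f0 : mul a2 a0 = u + (1 / 32 : ℝ) • (a0 + a2) := by rw [c a2 a0, D.m02]
    have f1 := sy a3 a0
    have f2 := sy a2 a0
    simp only [f0, D.m23, map_add, map_smul, LinearMap.add_apply, LinearMap.smul_apply,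
      smul_eq_mul, f1, f2, D.g02, D.g03, D.fs0, D.g23] at h1
    linarith

/-- The further inner products of axes. -/
theorem Data.lams (D : Data mul B a0 a1 am1 a2 am2 a3 s u t x y) {C : ℝ}
    (hC : C = (32768 * x * x - 2304 * x + 33 + 128 * y) / 7) :
    B a0 a3 = y + (256 * x - 6) * (x - y) + C * (1 - x) + 30 * (x - y) ∧
    B am2 a2 = x - (256 * x - 6) * (B a0 a3 - 1) - C * (y - x) - 30 * (x - y) ∧
    B am1 a3 = x - (256 * x - 6) * (B a0 a3 - 1) - C * (y - x) - 30 * (x - y) ∧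
    B am2 a3 = 1 + (256 * x - 6) * (x - B am2 a2) + C * (y - B a0 a3) + 30 * (x - y) := by
  obtain ⟨k1, k2, k3, k4, k5, k6⟩ := D.forms
  have sy := D.amb.2.1
  have hrel := D.rel
  rw [← hC] at hrel
  have r0 := congrArg (fun v => B v a0) hrel
  have r2 := congrArg (fun v => B v a2) hrel
  have rm1 := congrArg (fun v => B v am1) hrel
  have rm2 := congrArg (fun v => B v am2) hrel
  have f1 := sy a1 a0
  have f2 := sy am1 a0
  have f3 := sy a2 a0
  have f4 := sy am2 a0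
  have f5 := sy a3 a0
  have f6 := sy a3 a2
  have f7 := sy am2 am1
  have f8 := sy a2 am1
  have f9 := sy a3 am1
  have f10 := sy a2 am2
  have f11 := sy a3 am2
  have g03 := D.g03
  have g1m2 := D.g1m2
  simp only [map_add, map_sub, map_smul, LinearMap.add_apply, LinearMap.sub_apply, map_zero,
    LinearMap.zero_apply,
    LinearMap.smul_apply, smul_eq_mul, f1, f2, f3, f4, f5, f6, f7, f8, f9, f10, f11, D.g01, D.g0m1,
    D.g12, D.gm1m2, D.g23, D.g02, D.g0m2, D.g1m1, D.n0, D.n1, D.nm1, D.n2, D.nm2, k1, k2, k3, k4,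
    k5, k6, D.fu0, D.fu2, D.fum2, D.ftm1, D.g1m2] at r0 r2 rm1 rm2
  refine ⟨?_, ?_, ?_, ?_⟩
  · linear_combination (-1 : ℝ) * r0
  · rw [g03]
    linear_combination r2
  · rw [g03]
    linear_combination (-1 : ℝ) * rm1
  · rw [g03]
    linear_combination (-1 : ℝ) * rm2

/-- **The first polynomial equation.** -/
theorem Data.poly1 (D : Data mul B a0 a1 am1 a2 am2 a3 s u t x y) :
    2097152 * x ^ 4 - 2326528 * x ^ 3 + 40960 * x ^ 2 * y + 184320 * x ^ 2 + 8896 * x * y -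
      4800 * x + 128 * y ^ 2 - 167 * y + 39 = 0 := by
  obtain ⟨k1, k2, k3, k4, k5, k6⟩ := D.forms
  obtain ⟨l3, l4, -, -⟩ := D.lams rfl
  have sy := D.amb.2.1
  have c := D.amb.1
  have cy := form_cyc D.amb
  -- `B u u`
  have huu : B u u = (3 / 4 * y - 25 / 1024) * y + 7 / 2048 * (1 + B am2 a2) +
      7 / 32 * (31 / 32 * y - 1 / 32) - 1 / 16 * (31 / 32 * y - 1 / 32) := by
    have h1 := cy a0 a2 u
    simp only [D.m02, D.u0, map_add, map_smul, LinearMap.add_apply, LinearMap.smul_apply,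
      smul_eq_mul] at h1
    have f1 := sy a0 u
    have f2 := sy a2 u
    rw [f1, f2, D.fu0, D.fu2, D.g02, D.n2] at h1
    linarith
  have htu : B t u = (-32 / 3 * x * x + 5 / 3 * x - 1 / 24 * y - 127 / 3072) * y +
        (1 / 6 * x - 19 / 3072) * (x + B am1 a2) + 7 / 6144 * (1 + B am2 a2) +
        (32 / 3 * x - 19 / 48) * (31 / 32 * x - 1 / 32) + 7 / 96 * (31 / 32 * y - 1 / 32) -
        1 / 16 * (30 / 32 * x + 1 / 32 * y - 1 / 32) := by
    have h1 := cy a0 a2 t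
    simp only [D.m02, D.t0, map_add, map_smul, LinearMap.add_apply, LinearMap.smul_apply,
      smul_eq_mul] at h1
    have f1 := sy a0 t
    have f2 := sy a2 t
    have f3 := sy u t
    rw [f1, f2, f3, k1, k2, D.g02, D.g12, D.n2, D.fs2, D.fu2] at h1
    linarith
  have r := congrArg (fun v => B v u) D.rel
  have q0 := sy a0 u
  have q1 := sy a1 u
  have qm1 := sy am1 u
  have q2 := sy a2 u
  have qm2 := sy am2 u
  have q3 := sy a3 u
  simp only [map_add, map_sub, map_smul, LinearMap.add_apply, LinearMap.sub_apply, map_zero,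
    LinearMap.zero_apply, LinearMap.smul_apply, smul_eq_mul, q0, q1, qm1, q2, qm2, q3, D.fu0,
    D.fu2, D.fum2, k4, k5, k6, huu, htu] at r
  rw [l4, ← D.g03, l3] at r
  linear_combination (-56 / 3 : ℝ) * r

/-- **The second polynomial equation.** -/
theorem Data.poly2 (D : Data mul B a0 a1 am1 a2 am2 a3 s u t x y) :
    -536870912 * x ^ 5 + 605028352 * x ^ 4 - 26214400 * x ^ 3 * y - 44138496 * x ^ 3 +
      1593344 * x ^ 2 * y + 860160 * x ^ 2 - 94208 * x * y ^ 2 - 165856 * x * y + 2016 * x -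
      2784 * y ^ 2 + 2901 * y - 117 = 0 := by
  obtain ⟨k1, k2, k3, k4, k5, k6⟩ := D.forms
  obtain ⟨l3, l4, l4', l5⟩ := D.lams rfl
  have sy := D.amb.2.1
  have c := D.amb.1
  have cy := form_cyc D.amb
  have h33 : B (mul a0 a3) a3 = B a0 a3 := by
    rw [form_assoc D.amb, D.i3]
  have r := congrArg (fun v => B (mul a0 v) a3) D.rel
  simp only [map_add, map_sub, map_smul, map_zero, LinearMap.zero_apply, D.m0m2, D.m0m1, D.m02,
    D.m01, D.i0, D.t0, D.u0, LinearMap.add_apply, LinearMap.sub_apply, LinearMap.smul_apply,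
    smul_eq_mul, h33, D.fs3, k6, D.g23, D.g13, l5, l4', l4] at r
  rw [l3] at r
  linear_combination (-196 / 3 : ℝ) * r

end

end Cfsg.Agent.H851.Sak
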