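import Cfsg.Agent.H851.SakumaSeq

/-!
# Sakuma's theorem: the linear relation and the two polynomial equations
-/

set_option autoImplicit false
open Cfsg Cfsg.Axial

namespace Cfsg.Agent.H851.Sak

open Cfsg.Agent.H851.Maj

variable {V : Type*} [AddCommGroup V] [Module ℝ V]
variable {mul : V →ₗ[ℝ] V →ₗ[ℝ] V} {B : LinearMap.BilinForm ℝ V} {a : ℤ → V}

/-- The inner products of neighbours all agree. -/
theorem Seq.f_refl (S : Seq mul B a) (k i j i' j' : ℤ) (hi : i' = 2 * k - i)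
    (hj : j' = 2 * k - j) : B (a i') (a j') = B (a i) (a j) := by
  subst hi hj
  exact S.form_refl k i j

theorem Seq.s_refl (S : Seq mul B a) (i j j' : ℤ) (hj : j' = 2 * i - j) :
    sd mul a i j' = sd mul a i j := by
  subst hj
  exact (S.sd_refl i j).symm

/-- Basic facts, part 1: invariance of the three vectors `s`, `u`, `t`. -/
theorem Seq.basic_s (S : Seq mul B a) :
    sd mul a 0 (-1) = sd mul a 0 1 ∧ sd mul a 1 0 = sd mul a 0 1 ∧ sd mul a 1 2 = sd mul a 0 1 ∧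
    sd mul a (-1) 0 = sd mul a 0 1 ∧ sd mul a (-1) (-2) = sd mul a 0 1 ∧
    sd mul a 2 1 = sd mul a 0 1 ∧ sd mul a 2 3 = sd mul a 0 1 ∧
    sd mul a (-2) (-1) = sd mul a 0 1 ∧ sd mul a 3 2 = sd mul a 0 1 := by
  have e1 : sd mul a 0 (-1) = sd mul a 0 1 := S.s_refl 0 1 (-1) (by norm_num)
  have e2 : sd mul a 1 0 = sd mul a 0 1 := S.sd_symm 1 0
  have e3 : sd mul a 1 2 = sd mul a 0 1 := by rw [S.s_refl 1 0 2 (by norm_num), e2]
  have e4 : sd mul a (-1) 0 = sd mul a 0 1 := by rw [S.sd_symm, e1]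
  have e5 : sd mul a (-1) (-2) = sd mul a 0 1 := by rw [S.s_refl (-1) 0 (-2) (by norm_num), e4]
  have e6 : sd mul a 2 1 = sd mul a 0 1 := by rw [S.sd_symm, e3]
  have e7 : sd mul a 2 3 = sd mul a 0 1 := by rw [S.s_refl 2 1 3 (by norm_num), e6]
  have e8 : sd mul a (-2) (-1) = sd mul a 0 1 := by rw [S.sd_symm, e5]
  have e9 : sd mul a 3 2 = sd mul a 0 1 := by rw [S.sd_symm, e7]
  exact ⟨e1, e2, e3, e4, e5, e6, e7, e8, e9⟩

/-- The two parameters at distance two agree. -/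
theorem Seq.y_eq_z (S : Seq mul B a) : B (a 1) (a (-1)) = B (a 0) (a 2) := by
  obtain ⟨e1, e2, e3, e4, e5, e6, e7, e8, e9⟩ := S.basic_s
  have h1 := S.mul_s 0 1
  have h2 := S.mul_s 1 0
  rw [e2] at h2
  norm_num at h1 h2
  have h3 : B (mul (a 0) (sd mul a 0 1)) (a 1) = B (mul (a 1) (sd mul a 0 1)) (a 0) := by
    rw [form_shift S.amb, form_shift S.amb]
    have h4 := form_assoc S.amb (sd mul a 0 1) (a 0) (a 1)
    have h5 := form_assoc S.amb (sd mul a 0 1) (a 1) (a 0)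
    rw [S.amb.1 (a 1) (a 0)] at h5
    rw [← form_shift S.amb, ← form_shift S.amb, S.amb.1 (a 0) (sd mul a 0 1),
      S.amb.1 (a 1) (sd mul a 0 1), h4, h5]
  rw [h1, h2] at h3
  have f1 : B (sd mul a 0 1) (a 0) = 31 / 32 * B (a 0) (a 1) - 1 / 32 := S.form_s 0 1
  have f2 : B (sd mul a 0 1) (a 1) = 31 / 32 * B (a 0) (a 1) - 1 / 32 := by
    rw [← e2, S.form_s, S.amb.2.1 (a 1) (a 0)]
  have f3 : B (a 1) (a 0) = B (a 0) (a 1) := S.amb.2.1 _ _
  have f4 : B (a 2) (a 0) = B (a 0) (a 2) := S.amb.2.1 _ _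
  have f5 : B (a (-1)) (a 1) = B (a 1) (a (-1)) := S.amb.2.1 _ _
  simp only [map_smul, map_add, LinearMap.smul_apply, LinearMap.add_apply, smul_eq_mul, f1, f2, f3,
    f4, f5, S.norm] at h3
  linarith

end Cfsg.Agent.H851.Sak
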