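import Cfsg.Agent.H851.SimsRgd
import Cfsg.Agent.H851.SimsBase
import Cfsg.Agent.Lib.LocalCore

/-!
# S3386: defining characteristic, the bound on `|S|`
-/

set_option autoImplicit false
set_option linter.unusedSectionVars false

namespace Cfsg.Agent.H851.Sims

open Cfsg.Agent.Nodes.Reps Cfsg.Agent.Nodes.BNOf Cfsg.Agent.Nodes.Bruhat Cfsg.Agent.Nodes.LeviDec
  Cfsg.Agent.KFacts.RgdAut Cfsg.Agent.KFacts.RgdDiag Cfsg.Agent.KFacts.RgdCharP

universe u

section

variable {G : Type*} [Group G] [Finite G]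

/-- `N(D)` normalises `O_p(D)`. -/
theorem normalizer_pCore_le (p : ℕ) [Fact p.Prime] (D : Subgroup G) :
    Subgroup.normalizer (D : Set G) ≤ Subgroup.normalizer (((pCore p D).map D.subtype : Subgroup G) : Set G) := by
  set O : Subgroup G := (pCore p D).map D.subtype with hO
  have hOD : O ≤ D := Subgroup.map_subtype_le _
  have hOp : IsPGroup p O := (Lib.Cores.pCore_isPGroup p).map _
  have hDO : D ≤ Subgroup.normalizer (O : Set G) := Lib.LocalCore.le_normalizer_map_pCore p D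
  have key : ∀ a ∈ Subgroup.normalizer (D : Set G), ∀ x ∈ O, a * x * a⁻¹ ∈ O := by
    intro a ha x hx
    have hD : ∀ y, a * y * a⁻¹ ∈ D ↔ y ∈ D := fun y => (Subgroup.mem_normalizer_iff.1 ha y).symm
    have h1 : cjS a O ≤ D := by
      rintro _ ⟨y, hy, rfl⟩
      exact (hD y).2 (hOD hy)
    have h2 : IsPGroup p (cjS a O) := hOp.map _
    have h3 : D ≤ Subgroup.normalizer ((cjS a O : Subgroup G) : Set G) := by
      intro d hd
      have hd' : a⁻¹ * d * a ∈ D := by
        rw [← hD]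
        convert hd using 1
        group
      have h4 := Subgroup.mem_normalizer_iff.1 (hDO hd')
      rw [Subgroup.mem_normalizer_iff]
      intro y
      have h5 : ∀ z, z ∈ cjS a O ↔ a⁻¹ * z * a ∈ O := by
        intro z
        constructor
        · rintro ⟨w, hw, rfl⟩
          have : a⁻¹ * (MulAut.conj a).toMonoidHom w * a = w := by
            show a⁻¹ * (a * w * a⁻¹) * a = w
            group
          rwa [this]
        · intro hz
          exact ⟨_, hz, by show a * (a⁻¹ * z * a) * a⁻¹ = z; group⟩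
      rw [h5, h5, h4]
      have : a⁻¹ * d * a * (a⁻¹ * y * a) * (a⁻¹ * d * a)⁻¹ = a⁻¹ * (d * y * d⁻¹) * a := by group
      rw [this]
    exact Lib.LocalCore.le_map_pCore h1 h2 h3 ⟨x, hx, rfl⟩
  intro a ha
  rw [Subgroup.mem_normalizer_iff]
  intro x
  refine ⟨key a ha x, fun hx => ?_⟩
  have := key a⁻¹ (inv_mem ha) _ hx
  convert this using 1
  group

variable {c p : ℕ} {S A Q : Subgroup G} {g : G}

theorem Cfg.le_norm_inter (h : Cfg c p S A Q g) : A ≤ Subgroup.normalizer ((A ⊓ S : Subgroup G) : Set G) := by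
  have hS := h.norm
  intro a ha
  rw [Subgroup.mem_normalizer_iff]
  intro x
  rw [Subgroup.mem_inf, Subgroup.mem_inf]
  have h1 := Subgroup.mem_normalizer_iff.1 (Subgroup.le_normalizer ha) x
  have h2 : x ∈ S ↔ a * x * a⁻¹ ∈ S := by
    refine ⟨fun h3 => hS.conj_mem _ h3 _, fun h3 => ?_⟩
    have := hS.conj_mem _ h3 a⁻¹
    convert this using 1
    group
  rw [h1, h2]

theorem Cfg.le_norm_QS (h : Cfg c p S A Q g) : A ≤ Subgroup.normalizer ((Q ⊓ S : Subgroup G) : Set G) := by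
  have hS := h.norm
  intro a ha
  rw [Subgroup.mem_normalizer_iff]
  intro x
  rw [Subgroup.mem_inf, Subgroup.mem_inf]
  have h1 := Subgroup.mem_normalizer_iff.1 (h.Qnorm ha) x
  have h2 : x ∈ S ↔ a * x * a⁻¹ ∈ S := by
    refine ⟨fun h3 => hS.conj_mem _ h3 _, fun h3 => ?_⟩
    have := hS.conj_mem _ h3 a⁻¹
    convert this using 1
    group
  rw [h1, h2]

/-- Normal `p`-subgroups of `A ∩ S` lie in `Q ∩ S`. -/
theorem Cfg.le_QS (h : Cfg c p S A Q g) {N : Subgroup G} (hN : N ≤ A ⊓ S) (hp : IsPGroup p N)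
    (hn : A ⊓ S ≤ Subgroup.normalizer (N : Set G)) : N ≤ Q ⊓ S := by
  have := Fact.mk h.prime
  refine le_inf ?_ (le_trans hN inf_le_right)
  refine le_trans (Lib.LocalCore.le_map_pCore hN hp hn) ?_
  refine h.Qmax _ (le_trans (Subgroup.map_subtype_le _) inf_le_left)
    (le_trans h.le_norm_inter (normalizer_pCore_le p _)) ((Lib.Cores.pCore_isPGroup p).map _)

end

theorem filt_bound (c : ℕ) : ∃ F : ℕ, ∀ {G : Type u} [Group G] [Finite G] (p : ℕ) (S A Q : Subgroup G) (g : G),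
    Cfg c p S A Q g → A ⊓ S ≠ ⊥ → KFacts.RgdFilt.HasFilt p S → Nat.card S ≤ F := by
  obtain ⟨F, hF⟩ := SimsCount.exists_bound.{u} (4 * c + 2) c
  refine ⟨F, ?_⟩
  intro G _ _ p S A Q g h hAS hfilt
  have hSn := h.norm
  have hSs := h.simple
  have := Fact.mk h.prime
  have hnonab : ∃ a b : ↥S, a * b ≠ b * a := by
    obtain ⟨a, ha, b, hb, hab⟩ := h.nonab
    exact ⟨⟨a, ha⟩, ⟨b, hb⟩, fun h1 => hab (congrArg Subtype.val h1)⟩
  obtain ⟨l, M, A', hA', T, n, X, R, hW, hBT, hGG, hNC, hconn, hSup, hl⟩ := hfilt.data hnonab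
  -- the point stabiliser in `S`
  set R₀ : Subgroup ↥S := (Q ⊓ S).subgroupOf S with hR₀
  set M₀ : Subgroup ↥S := (A ⊓ S).subgroupOf S with hM₀
  have hQS := h.inter_ne_bot hAS
  have hR₀1 : R₀ ≠ ⊥ := by
    intro h1
    rw [hR₀, Subgroup.subgroupOf_eq_bot] at h1
    exact hQS (by rw [← disjoint_self]; exact h1.mono_right inf_le_right)
  have hR₀p : IsPGroup p R₀ :=
    (h.Qp.to_le inf_le_left).of_equiv (Subgroup.subgroupOfEquivOfLe (inf_le_right : Q ⊓ S ≤ S)).symm
  have hNQS : Subgroup.normalizer ((Q ⊓ S : Subgroup G) : Set G) = A :=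
    h.normalizer_eq hQS (le_trans inf_le_left h.Qle) h.le_norm_QS
  have hnorm : Subgroup.normalizer (R₀ : Set ↥S) = M₀ := by
    ext y
    rw [Subgroup.mem_subgroupOf, Subgroup.mem_inf, ← hNQS, Subgroup.mem_normalizer_iff, Subgroup.mem_normalizer_iff]
    constructor
    · intro h1
      refine ⟨fun x => ?_, y.2⟩
      constructor
      · intro hx
        exact (h1 ⟨x, hx.2⟩).1 hx
      · intro hx
        have hxS : x ∈ S := by
          have := hSn.conj_mem _ hx.2 (y : G)⁻¹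
          convert this using 1
          group
        exact (h1 ⟨x, hxS⟩).2 hx
    · rintro ⟨h1, -⟩ x
      exact h1 x
  have hmaxp : ∀ N : Subgroup ↥S, N ≤ Subgroup.normalizer (R₀ : Set ↥S) →
      Subgroup.normalizer (R₀ : Set ↥S) ≤ Subgroup.normalizer (N : Set ↥S) → IsPGroup p N → N ≤ R₀ := by
    intro N hN hNn hNp
    rw [hnorm] at hN hNn
    have h1 : N.map S.subtype ≤ Q ⊓ S := by
      apply h.le_QS
      · rintro _ ⟨y, hy, rfl⟩
        exact hN hy
      · exact hNp.map _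
      · intro m hm
        have h2 := Subgroup.mem_normalizer_iff.1 (hNn (show (⟨m, hm.2⟩ : ↥S) ∈ M₀ from hm))
        rw [Subgroup.mem_normalizer_iff]
        intro x
        constructor
        · rintro ⟨y, hy, rfl⟩
          exact ⟨_, (h2 y).1 hy, rfl⟩
        · rintro ⟨y, hy, e⟩
          have hxS : x ∈ S := by
            have h3 : m⁻¹ * (y : G) * m⁻¹⁻¹ ∈ S := hSn.conj_mem _ y.2 _
            have h4 : x = m⁻¹ * (y : G) * m⁻¹⁻¹ := by
              have e' : (y : G) = m * x * m⁻¹ := e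
              rw [e']; group
            rwa [h4]
          refine ⟨⟨x, hxS⟩, (h2 _).2 ?_, rfl⟩
          have h5 : (⟨m, hm.2⟩ : ↥S) * ⟨x, hxS⟩ * (⟨m, hm.2⟩ : ↥S)⁻¹ = y := Subtype.ext e.symm
          rw [h5]
          exact hy
    intro y hy
    exact h1 ⟨y, hy, rfl⟩
  obtain ⟨y₀, J, hJ, hRV, hMP⟩ := SimsRgd.exists_par R hBT hR₀1 hR₀p hmaxp
  -- change the datum
  have hMeq : M₀ = cj y₀ (PJ M.toCoxeterSystem hA' T X J) := by
    apply le_antisymm
    · rw [← hnorm]; exact hMP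
    · rw [← hnorm, hRV, Nodes.NormX.normalizer_cj]
      exact cj_mono y₀ (PJ_le_normalizer_VJ R J)
  have R' := SimsRgd.rgd_cj R y₀
  rw [SimsRgd.cj_PJ'] at hMeq
  rw [SimsRgd.cj_VJ'] at hRV
  have hGG' : GG M.toCoxeterSystem hA' (cj y₀ T) (fun x => cj y₀ (X x)) = ⊤ := by
    rw [← SimsRgd.cj_GG', hGG, eq_top_iff]
    intro y _
    rw [mem_cj]
    trivial
  generalize cj y₀ T = T' at *
  generalize (fun x => cj y₀ (X x)) = X' at *
  generalize (fun i => y₀ * n i * y₀⁻¹) = n' at *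
  obtain ⟨J', hJ'⟩ : ∃ J' : Finset (Fin l), (J' : Set (Fin l)) = J := ⟨(Set.toFinite J).toFinset, by simp⟩
  subst hJ'
  -- the group of automorphisms
  let φ : G →* MulAut ↥S := MulAut.conjNormal
  have hφ : ∀ (x : G) (y : ↥S), ((φ x y : ↥S) : G) = x * y * x⁻¹ := fun x y => MulAut.conjNormal_apply x y
  have hφS : ∀ y : ↥S, φ y = MulAut.conj y := by
    intro y
    ext z
    rw [hφ]
    rfl
  have hAM : ∀ a : G, a ∈ A ↔ Fix (φ a) M₀ := by
    have h1 : Subgroup.normalizer ((A ⊓ S : Subgroup G) : Set G) = A := h.normalizer_eq hAS inf_le_left h.le_norm_inter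
    intro a
    conv_lhs => rw [← h1]
    rw [Subgroup.mem_normalizer_iff]
    constructor
    · intro h2 x
      rw [Subgroup.mem_subgroupOf, Subgroup.mem_subgroupOf, hφ]
      exact (h2 x).symm
    · intro h2 x
      constructor
      · intro hx
        have := (h2 ⟨x, hx.2⟩).2 hx
        rwa [Subgroup.mem_subgroupOf, hφ] at this
      · intro hx
        have hxS : x ∈ S := by
          have := hSn.conj_mem _ hx.2 a⁻¹
          convert this using 1
          group
        have := (h2 ⟨x, hxS⟩).1 (by rw [Subgroup.mem_subgroupOf, hφ]; exact hx)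
        exact this
  have hprod : ∀ β ∈ φ.range, ∃ y : ↥S, Fix (MulAut.conj y * β) M₀ := by
    rintro _ ⟨x, rfl⟩
    have h1 : x⁻¹ ∈ S ⊔ A := by rw [h.sup_eq_top]; trivial
    obtain ⟨s, hs, a, ha, e⟩ := Subgroup.mem_sup_of_normal_left.1 h1
    -- x = a⁻¹ s⁻¹ = (a⁻¹ s⁻¹ a) a⁻¹
    refine ⟨⟨a⁻¹ * s * a, ?_⟩, ?_⟩
    · have := hSn.conj_mem _ hs a⁻¹
      rwa [inv_inv] at this
    · rw [← hφS, ← map_mul, ← hAM]
      show a⁻¹ * s * a * x ∈ A
      have h2 : x = a⁻¹ * s⁻¹ := by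
        rw [← inv_inv x, ← e]; group
      rw [h2]
      have : a⁻¹ * s * a * (a⁻¹ * s⁻¹) = a⁻¹ := by group
      rw [this]
      exact inv_mem ha
  have hmax : ∀ P : Subgroup ↥S, M₀ ≤ P → P ≠ ⊤ → (∀ α ∈ φ.range, Fix α M₀ → Fix α P) → P = M₀ := by
    intro P hMP' hP hfix
    have hM1 : M₀ ≠ ⊥ := by
      intro h1
      rw [hM₀, Subgroup.subgroupOf_eq_bot] at h1
      exact hAS (by rw [← disjoint_self]; exact h1.mono_right inf_le_right)
    have hP1 : P ≠ ⊥ := fun h1 => hM1 (eq_bot_iff.2 (h1 ▸ hMP'))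
    have hAP : A ≤ Subgroup.normalizer ((P.map S.subtype : Subgroup G) : Set G) := by
      intro a ha
      have h1 := hfix (φ a) ⟨a, rfl⟩ ((hAM a).1 ha)
      rw [Subgroup.mem_normalizer_iff]
      intro x
      constructor
      · rintro ⟨y, hy, rfl⟩
        exact ⟨φ a y, (h1 y).2 hy, hφ a y⟩
      · rintro ⟨y, hy, e⟩
        refine ⟨(φ a).symm y, ?_, ?_⟩
        · rw [SetLike.mem_coe, ← h1]
          rw [MulEquiv.apply_symm_apply]
          exact hy
        · have h2 := hφ a ((φ a).symm y)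
          rw [MulEquiv.apply_symm_apply] at h2
          have e' : (y : G) = a * x * a⁻¹ := e
          rw [e'] at h2
          exact (mul_left_cancel (mul_right_cancel h2)).symm
    have hN : Subgroup.normalizer ((P.map S.subtype : Subgroup G) : Set G) = A := by
      rcases h.coatom.le_iff.1 hAP with h1 | h1
      · exfalso
        have h2 : (P.map S.subtype).Normal := Subgroup.normalizer_eq_top_iff.1 h1
        have h3 : P.Normal := by
          refine ⟨fun y hy z => ?_⟩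
          obtain ⟨w, hw, e⟩ := h2.conj_mem (y : G) ⟨y, hy, rfl⟩ (z : G)
          have : w = z * y * z⁻¹ := Subtype.ext e
          rwa [← this]
        rcases h3.eq_bot_or_eq_top with h4 | h4
        · exact hP1 h4
        · exact hP h4
      · exact h1
    apply le_antisymm _ hMP'
    intro y hy
    refine ⟨?_, y.2⟩
    rw [← hN]
    exact Subgroup.le_normalizer ⟨y, hy, rfl⟩
  -- indices
  have hidx : R₀.relIndex M₀ ≤ c := by
    have h1 : R₀.relIndex M₀ = (Q ⊓ S).relIndex (A ⊓ S) := by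
      rw [hR₀, hM₀, Subgroup.relIndex_subgroupOf inf_le_right]
    rw [h1]
    have h2 : (Q ⊓ S).relIndex (A ⊓ S) = Q.relIndex (A ⊓ S) := by
      rw [← Subgroup.inf_relIndex_right (Q ⊓ S), ← Subgroup.inf_relIndex_right Q]
      congr 1
      exact le_antisymm (inf_le_inf_right _ inf_le_left)
        (le_inf (le_inf inf_le_left (le_trans inf_le_right inf_le_right)) inf_le_right)
    rw [h2]
    exact h.relIndex_le inf_le_left
  have hs : ∃ s : ↥S, s ∉ M₀ ∧ (cj s M₀).relIndex M₀ ≤ c := by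
    obtain ⟨s, hsS, hsA, hsc⟩ := h.exists_s
    refine ⟨⟨s, hsS⟩, fun h1 => hsA h1.1, ?_⟩
    have h1 : (cj (⟨s, hsS⟩ : ↥S) M₀) = ((cjS s A) ⊓ S).subgroupOf S := by
      ext y
      rw [mem_cj, Subgroup.mem_subgroupOf, Subgroup.mem_subgroupOf, Subgroup.mem_inf, Subgroup.mem_inf]
      constructor
      · rintro ⟨h2, -⟩
        refine ⟨⟨_, h2, ?_⟩, y.2⟩
        show s * (s⁻¹ * (y : G) * s) * s⁻¹ = y
        group
      · rintro ⟨⟨a, ha, e⟩, -⟩
        refine ⟨?_, (((⟨s, hsS⟩ : ↥S)⁻¹ * y * ⟨s, hsS⟩ : ↥S)).2⟩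
        show s⁻¹ * (y : G) * s ∈ A
        have e' : (y : G) = s * a * s⁻¹ := e.symm
        rw [e']
        have : s⁻¹ * (s * a * s⁻¹) * s = a := by group
        rwa [this]
    rw [h1, hM₀, Subgroup.relIndex_subgroupOf inf_le_right]
    have h2 : (cjS s A ⊓ S).relIndex (A ⊓ S) = (cjS s A).relIndex (A ⊓ S) := by
      rw [← Subgroup.inf_relIndex_right (cjS s A ⊓ S), ← Subgroup.inf_relIndex_right (cjS s A)]
      congr 1
      exact le_antisymm (inf_le_inf_right _ inf_le_left)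
        (le_inf (le_inf inf_le_left (le_trans inf_le_right inf_le_right)) inf_le_right)
    rw [h2]
    exact le_trans (Subgroup.relIndex_le_of_le_right inf_le_left Subgroup.index_ne_zero_of_finite) hsc
  rw [hMeq] at hprod hmax hidx hs
  rw [hRV] at hidx
  obtain ⟨h1, h2, h3⟩ := SimsRgd.rank_le R' hGG' hconn hJ φ.range (fun y => ⟨y, hφS y⟩) hprod hmax hs hidx
  rw [Fintype.card_fin] at h1
  exact hF l h1 M A' hA' p T' n' X' R' hW hGG' h2 h3

end Cfsg.Agent.H851.Sims
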