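import Cfsg.Agent.H851.SimsMain
import Cfsg.Agent.H717.SimsTw
import Cfsg.Agent.H989.Sims.FormsCore

/-!
# S3386 (the Sims conjecture): from point stabilisers of primitive groups to the almost simple case
-/

set_option autoImplicit false
set_option linter.unusedSectionVars false

namespace Cfsg.Agent.H851.Sims

universe u v

open Cfsg

/-- the statement for maximal subgroups -/
theorem max_bound (hX : Cross.{u})
    (hT : ∀ c : ℕ, ∃ F : ℕ, ∀ {G : Type u} [Group G] [Finite G] (S A Q : Subgroup G) (g : G),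
      Cfg c 2 S A Q g → A ⊓ S ≠ ⊥ → Lie.Iso2F4 S → Nat.card S ≤ F)
    (hK : ∀ (S : Type u) [Group S] [Finite S] [IsSimpleGroup S], IsKnownSimple' S) (d : ℕ) :
    ∃ F : ℕ, ∀ {G : Type u} [Group G] [Finite G] (A : Subgroup G) (g : G), IsCoatom A → A.normalCore = ⊥ →
      g ∉ A → (cjS g A).relIndex A ≤ d → Nat.card A ≤ F :=
  H717.Sims.reduction (fun c => as_bound H989.Sims.formsCore hX hT hK c) d

/-- the statement for primitive groups -/
theorem prim_bound (h : ∀ d : ℕ, ∃ F : ℕ, ∀ {G : Type u} [Group G] [Finite G] (A : Subgroup G) (g : G),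
      IsCoatom A → A.normalCore = ⊥ → g ∉ A → (cjS g A).relIndex A ≤ d → Nat.card A ≤ F) :
    ∃ f : ℕ → ℕ, ∀ (G : Type u) [Group G] [Finite G] (Ω : Type v) [MulAction G Ω] [FaithfulSMul G Ω],
      MulAction.IsPreprimitive G Ω → ∀ a b : Ω, 2 ≤ Nat.card (MulAction.orbit (MulAction.stabilizer G a) b) →
        Nat.card ↥(MulAction.stabilizer G a) ≤ f (Nat.card (MulAction.orbit (MulAction.stabilizer G a) b)) := by
  choose f hf using h
  refine ⟨f, ?_⟩
  intro G _ _ Ω _ _ hprim a b hab
  set A := MulAction.stabilizer G a with hA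
  obtain ⟨g, hg⟩ := MulAction.exists_smul_eq G a b
  have hgA : g ∉ A := by
    intro h1
    have h2 : b = a := by rw [← hg]; exact h1
    rw [h2] at hab
    have h3 : MulAction.orbit A a = {a} := by
      ext x
      constructor
      · rintro ⟨⟨y, hy⟩, rfl⟩
        exact hy
      · rintro rfl
        exact MulAction.mem_orbit_self _
    rw [h3, Nat.card_unique] at hab
    omega
  have hnt : Nontrivial Ω := ⟨a, b, fun h1 => hgA (by
    show g • a = a
    rw [hg, ← h1])⟩
  have hcoatom : IsCoatom A := MulAction.IsPreprimitive.isCoatom_stabilizer_of_isPreprimitive G a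
  have hcore : A.normalCore = ⊥ := by
    rw [Subgroup.eq_bot_iff_forall]
    intro x hx
    apply FaithfulSMul.eq_of_smul_eq_smul (M := G) (α := Ω)
    intro w
    obtain ⟨y, rfl⟩ := MulAction.exists_smul_eq G a w
    have h1 : y⁻¹ * x * y ∈ A := by
      have h2 := hx y⁻¹
      rwa [inv_inv] at h2
    have h2 : (y⁻¹ * x * y) • a = a := h1
    rw [one_smul]
    calc x • y • a = y • (y⁻¹ * x * y) • a := by
          rw [← mul_smul, ← mul_smul]; congr 1; group
      _ = y • a := by rw [h2]
  refine hf _ A g hcoatom hcore hgA (le_of_eq ?_)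
  -- the length of the orbit
  have h1 : MulAction.stabilizer ↥A b = (cjS g A).subgroupOf A := by
    ext x
    rw [MulAction.mem_stabilizer_iff, Subgroup.mem_subgroupOf]
    constructor
    · intro h2
      refine ⟨g⁻¹ * x * g, ?_, by show g * (g⁻¹ * (x : G) * g) * g⁻¹ = x; group⟩
      show (g⁻¹ * (x : G) * g) • a = a
      have h3 : (x : G) • b = b := h2
      rw [mul_smul, mul_smul, hg, h3, ← hg, inv_smul_smul]
    · rintro ⟨y, hy, e⟩
      have e' : (x : G) = g * y * g⁻¹ := e.symm
      have hy' : y • a = a := hy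
      show (x : G) • b = b
      rw [e', mul_smul, mul_smul, ← hg, inv_smul_smul, hy']
  have h2 := Nat.card_congr (MulAction.orbitEquivQuotientStabilizer ↥A b)
  rw [h2, h1]
  rfl

end Cfsg.Agent.H851.Sims
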