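import Cfsg.Agent.H851.SimsFilt
import Cfsg.Agent.H851.SimsForms
import Cfsg.Agent.H717.SimsAlt
import Cfsg.Agent.H957.SimsUnit
import Cfsg.Agent.H957.SimsOmega
import Cfsg.Agent.H978.SimsPSp
import Cfsg.Agent.H973.SimsPSL
import Cfsg.Agent.H973.SimsLin
import Cfsg.Agent.H36.Sims.Spor
import Cfsg.Agent.H415.SimsRk

/-!
# S3386 (the Sims conjecture): the bound for the almost simple configuration
-/

set_option autoImplicit false
set_option linter.unusedSectionVars false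

namespace Cfsg.Agent.H851.Sims

universe u

open Cfsg Cfsg.Agent.KFacts.RgdLieCharP

/-- small `r'`-subgroups of `S` centralise big `r`-subgroups -/
def LargeC (c K r : ℕ) (S : Type*) [Group S] : Prop :=
  ∀ Z : Subgroup S, Nat.card Z ≤ K → (Nat.card Z).Coprime r →
    ∃ E : Subgroup S, E ≤ Subgroup.centralizer (Z : Set S) ∧ IsPGroup r E ∧ c < Nat.card E

theorem card_map_equiv {S Y : Type*} [Group S] [Group Y] (e : S ≃* Y) (Z : Subgroup S) :
    Nat.card (Z.map e.toMonoidHom) = Nat.card Z :=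
  (Nat.card_congr (Z.equivMapOfInjective _ e.injective).toEquiv).symm

theorem centralizer_of_equiv {S Y : Type*} [Group S] [Group Y] (e : S ≃* Y) {Z : Subgroup S} {E : Subgroup Y}
    (hE : E ≤ Subgroup.centralizer ((Z.map e.toMonoidHom : Subgroup Y) : Set Y)) :
    E.map e.symm.toMonoidHom ≤ Subgroup.centralizer (Z : Set S) := by
  rintro _ ⟨x, hx, rfl⟩
  rw [Subgroup.mem_centralizer_iff]
  intro z hz
  apply e.injective
  have h1 := Subgroup.mem_centralizer_iff.1 (hE hx) (e z) ⟨z, hz, rfl⟩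
  show e (z * e.symm x) = e (e.symm x * z)
  rw [map_mul, map_mul, e.apply_symm_apply]
  exact h1

theorem LargeC.of_equiv {c K r : ℕ} {S Y : Type*} [Group S] [Group Y] (e : S ≃* Y) (h : LargeC c K r Y) :
    LargeC c K r S := by
  intro Z hZ hZr
  rw [← card_map_equiv e Z] at hZ hZr
  obtain ⟨E, hE, hEp, hEc⟩ := h _ hZ hZr
  refine ⟨E.map e.symm.toMonoidHom, centralizer_of_equiv e hE, hEp.map _, ?_⟩
  rwa [card_map_equiv e.symm E]

/-- the classical families, uniformly -/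
def Fam (c : ℕ) (P : ∀ (S : Type u) [Group S], Prop) : Prop :=
  ∃ N : ℕ, ∀ (S : Type u) [Group S], P S → ∃ r : ℕ, r.Prime ∧ IsLieFilt r S ∧ (LinDeg N r S ∨ LargeC c (c ^ c) r S)

theorem prime_of_char (F : Type) [Field F] [Finite F] : ∃ r : ℕ, r.Prime ∧ CharP F r := by
  obtain ⟨r, hr⟩ := CharP.exists F
  exact ⟨r, CharP.char_is_prime F r, hr⟩

section Families

variable (c : ℕ)

theorem fam_psl : Fam.{u} c (fun S _ => IsPSL S) := by
  obtain ⟨n₀, hn₀⟩ := H973.SimsPSL.large_psl c (c ^ c)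
  refine ⟨n₀ ^ 2, ?_⟩
  rintro S _ ⟨F, iF, iF', n, hn, hn2, ⟨e⟩⟩
  obtain ⟨r, hr, hc⟩ := prime_of_char F
  have := Fact.mk hr
  refine ⟨r, hr, Or.inl ⟨F, iF, iF', hc, n, hn, hn2, ⟨e⟩⟩, ?_⟩
  rcases le_or_gt n₀ n with h1 | h1
  · exact Or.inr (LargeC.of_equiv e (hn₀ n h1 F r))
  · exact Or.inl (H973.SimsLin.linDeg_congr e (H973.SimsLin.linDeg_mono (Nat.pow_le_pow_left h1.le 2)
      (H973.SimsLin.linDeg_psl n F r)))

theorem fam_psp (hC : FormsCore) : Fam.{u} c (fun S _ => IsPSp S) := by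
  obtain ⟨n₀, hn₀⟩ := H978.SimsPSp.large_psp hC c (c ^ c)
  refine ⟨(2 * n₀) ^ 2, ?_⟩
  rintro S _ ⟨F, iF, iF', n, hn, hn2, ⟨e⟩⟩
  obtain ⟨r, hr, hc⟩ := prime_of_char F
  have := Fact.mk hr
  refine ⟨r, hr, Or.inr (Or.inl ⟨F, iF, iF', hc, n, hn, hn2, ⟨e⟩⟩), ?_⟩
  rcases le_or_gt n₀ n with h1 | h1
  · exact Or.inr (LargeC.of_equiv e (hn₀ n h1 F r))
  · exact Or.inl (H973.SimsLin.linDeg_congr e (H973.SimsLin.linDeg_mono (Nat.pow_le_pow_left (by omega) 2)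
      (H973.SimsLin.linDeg_psp n F r)))

theorem fam_psu (hC : FormsCore) : Fam.{u} c (fun S _ => IsPSU S) := by
  obtain ⟨n₀, hn₀⟩ := H957.Sims.large_psu hC c (c ^ c)
  refine ⟨n₀ ^ 2, ?_⟩
  rintro S _ ⟨F, iF, iF', n, q, hq, hn, hn2, ⟨e⟩⟩
  obtain ⟨r, hr, hc⟩ := prime_of_char F
  have := Fact.mk hr
  refine ⟨r, hr, Or.inr (Or.inr (Or.inl ⟨F, iF, iF', hc, n, q, hq, hn, hn2, ⟨e⟩⟩)), ?_⟩
  rcases le_or_gt n₀ n with h1 | h1
  · exact Or.inr (LargeC.of_equiv e (hn₀ n h1 F r q (by rw [Nat.card_eq_fintype_card, hq])))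
  · exact Or.inl (H973.SimsLin.linDeg_congr e (H973.SimsLin.linDeg_mono (Nat.pow_le_pow_left h1.le 2)
      (H973.SimsLin.linDeg_psu n q F r)))

theorem fam_odd (hC : FormsCore) : Fam.{u} c (fun S _ => IsPOmegaOdd S) := by
  obtain ⟨n₀, hn₀⟩ := H957.Sims.large_pomega_odd hC c (c ^ c)
  refine ⟨(2 * n₀ + 1) ^ 2, ?_⟩
  rintro S _ ⟨F, iF, iF', n, hn, hn2, ⟨e⟩⟩
  obtain ⟨r, hr, hc⟩ := prime_of_char F
  have := Fact.mk hr
  refine ⟨r, hr, Or.inr (Or.inr (Or.inr (Or.inl ⟨F, iF, iF', hc, n, hn, hn2, ⟨e⟩⟩))), ?_⟩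
  rcases le_or_gt n₀ n with h1 | h1
  · refine Or.inr (LargeC.of_equiv e (hn₀ n h1 F r ?_))
    rintro rfl
    obtain ⟨k, hk⟩ := FiniteField.card F 2
    rw [hk.2] at hn2
    exact Nat.not_even_iff_odd.2 hn2 (even_iff_two_dvd.2 (dvd_pow_self 2 k.pos.ne'))
  · refine Or.inl (H973.SimsLin.linDeg_congr e (H973.SimsLin.linDeg_mono ?_
      (H973.SimsLin.linDeg_pomega F r _)))
    refine Nat.pow_le_pow_left ?_ 2
    simp only [Fintype.card_sum, Fintype.card_fin, Fintype.card_unit]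
    omega

theorem fam_plus (hC : FormsCore) : Fam.{u} c (fun S _ => IsPOmegaPlus S) := by
  obtain ⟨n₀, hn₀⟩ := H957.Sims.large_pomega_plus hC c (c ^ c)
  refine ⟨(2 * n₀) ^ 2, ?_⟩
  rintro S _ ⟨F, iF, iF', n, hn, ⟨e⟩⟩
  obtain ⟨r, hr, hc⟩ := prime_of_char F
  have := Fact.mk hr
  refine ⟨r, hr, Or.inr (Or.inr (Or.inr (Or.inr (Or.inl ⟨F, iF, iF', hc, n, hn, ⟨e⟩⟩)))), ?_⟩
  rcases le_or_gt n₀ n with h1 | h1
  · exact Or.inr (LargeC.of_equiv e (hn₀ n h1 F r))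
  · refine Or.inl (H973.SimsLin.linDeg_congr e (H973.SimsLin.linDeg_mono ?_
      (H973.SimsLin.linDeg_pomega F r _)))
    refine Nat.pow_le_pow_left ?_ 2
    simp only [Fintype.card_sum, Fintype.card_fin]
    omega

theorem fam_minus (hC : FormsCore) : Fam.{u} c (fun S _ => IsPOmegaMinus S) := by
  obtain ⟨n₀, hn₀⟩ := H957.Sims.large_pomega_minus hC c (c ^ c)
  refine ⟨(2 * n₀ + 4) ^ 2, ?_⟩
  rintro S _ ⟨F, iF, iF', n, a, b, hn, hab, ⟨e⟩⟩
  obtain ⟨r, hr, hc⟩ := prime_of_char F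
  have := Fact.mk hr
  refine ⟨r, hr, Or.inr (Or.inr (Or.inr (Or.inr (Or.inr (Or.inl ⟨F, iF, iF', hc, n, a, b, hn, hab, ⟨e⟩⟩))))), ?_⟩
  rcases le_or_gt n₀ (n - 1) with h1 | h1
  · exact Or.inr (LargeC.of_equiv e (hn₀ (n - 1) h1 F r a b hab))
  · refine Or.inl (H973.SimsLin.linDeg_congr e (H973.SimsLin.linDeg_mono ?_
      (H973.SimsLin.linDeg_pomega F r _)))
    refine Nat.pow_le_pow_left ?_ 2
    simp only [Fintype.card_sum, Fintype.card_fin]
    omega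

end Families

/-- the conclusion for a class of simple groups -/
def Bd (c : ℕ) (P : ∀ (S : Type u) [Group S], Prop) : Prop :=
  ∃ F : ℕ, ∀ {G : Type u} [Group G] [Finite G] (p : ℕ) (S A Q : Subgroup G) (g : G),
    Cfg c p S A Q g → A ⊓ S ≠ ⊥ → P ↥S → Nat.card (A ⊓ S : Subgroup G) ≤ F

/-- the cross characteristic bound -/
def Cross : Prop := ∀ (c N : ℕ), ∃ F : ℕ, ∀ {G : Type u} [Group G] [Finite G] (p r : ℕ) (S A Q : Subgroup G) (g : G),
    Cfg c p S A Q g → r.Prime → p ≠ r → LinDeg N r S → Nat.card (A ⊓ S : Subgroup G) ≤ F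

theorem card_inf_le {G : Type*} [Group G] [Finite G] (A S : Subgroup G) :
    Nat.card (A ⊓ S : Subgroup G) ≤ Nat.card S := Subgroup.card_le_of_le inf_le_right

theorem Bd.or {c : ℕ} {P P' : ∀ (S : Type u) [Group S], Prop} (h : Bd c P) (h' : Bd c P') :
    Bd c (fun S _ => P S ∨ P' S) := by
  obtain ⟨F, hF⟩ := h
  obtain ⟨F', hF'⟩ := h'
  refine ⟨max F F', ?_⟩
  intro G _ _ p S A Q g h1 h2 h3
  rcases h3 with h3 | h3
  · exact le_trans (hF p S A Q g h1 h2 h3) (le_max_left _ _)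
  · exact le_trans (hF' p S A Q g h1 h2 h3) (le_max_right _ _)

/-- the class given by a class of `IsLieFilt` groups with the dichotomy -/
theorem Bd.of_fam (hX : Cross.{u}) {c : ℕ} {P : ∀ (S : Type u) [Group S], Prop} (h : Fam c P) : Bd c P := by
  obtain ⟨N, hN⟩ := h
  obtain ⟨F, hF⟩ := filt_bound.{u} c
  obtain ⟨F', hF'⟩ := hX c N
  refine ⟨max F F', ?_⟩
  intro G _ _ p S A Q g h1 h2 h3
  obtain ⟨r, hr, hfilt, hd⟩ := hN S h3
  by_cases hpr : p = r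
  · subst hpr
    exact le_trans (card_inf_le A S) (le_trans (hF p S A Q g h1 h2 (hasFilt_of_lie hfilt)) (le_max_left _ _))
  · rcases hd with hd | hd
    · exact le_trans (hF' p r S A Q g h1 hr hpr hd) (le_max_right _ _)
    · exfalso
      refine h1.bound_of_large h2 (c ^ c) le_rfl fun Z hZ hZp => ?_
      obtain ⟨E, hE, hEr, hEc⟩ := hd Z hZ (by
        have := Fact.mk h1.prime
        obtain ⟨k, hk⟩ := IsPGroup.iff_card.1 hZp
        rw [hk]
        exact Nat.Coprime.pow_left k ((Nat.coprime_primes h1.prime hr).2 hpr))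
      exact ⟨r, E, hr, Ne.symm hpr, hE, hEr, hEc⟩

theorem bd_alt (c : ℕ) : Bd.{u} c (fun S _ => IsAlternating S) := by
  have h0 : ∀ p : ℕ, ∃ n₀ : ℕ, p.Prime → ∀ n : ℕ, n₀ ≤ n →
      ∀ Z : Subgroup (alternatingGroup (Fin n)), Nat.card Z ≤ c ^ c →
      ∃ (r : ℕ) (E : Subgroup (alternatingGroup (Fin n))), r.Prime ∧ r ≠ p ∧
        E ≤ Subgroup.centralizer (Z : Set (alternatingGroup (Fin n))) ∧ IsPGroup r E ∧ c < Nat.card E := by
    intro p
    by_cases hp : p.Prime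
    · obtain ⟨n₀, hn₀⟩ := H717.Sims.large_alt c (c ^ c) p hp
      exact ⟨n₀, fun _ => hn₀⟩
    · exact ⟨0, fun h1 => absurd h1 hp⟩
  choose f hf using h0
  refine ⟨(∑ p ∈ Finset.range (c + 1), f p).factorial, ?_⟩
  rintro G _ _ p S A Q g h1 h2 ⟨n, hn, ⟨e⟩⟩
  by_cases hn0 : f p ≤ n
  · exfalso
    refine h1.bound_of_large h2 (c ^ c) le_rfl fun Z hZ _ => ?_
    rw [← card_map_equiv e Z] at hZ
    obtain ⟨r, E, hr, hrp, hE, hEp, hEc⟩ := hf p h1.prime n hn0 _ hZ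
    refine ⟨r, E.map e.symm.toMonoidHom, hr, hrp, centralizer_of_equiv e hE, hEp.map _, ?_⟩
    rwa [card_map_equiv e.symm E]
  · refine le_trans (card_inf_le A S) ?_
    have h3 : Nat.card S = Nat.card (alternatingGroup (Fin n)) := Nat.card_congr e.toEquiv
    have h4 : Nat.card (alternatingGroup (Fin n)) ≤ n.factorial := by
      have h5 : Nat.card (alternatingGroup (Fin n)) ≤ Nat.card (Equiv.Perm (Fin n)) :=
        Nat.card_le_card_of_injective _ Subtype.val_injective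
      rwa [Nat.card_perm, Nat.card_fin] at h5
    rw [h3]
    refine le_trans h4 (Nat.factorial_le ?_)
    have h6 : f p ≤ ∑ p ∈ Finset.range (c + 1), f p :=
      Finset.single_le_sum (f := f) (fun _ _ => Nat.zero_le _) (Finset.mem_range.2 (by have := h1.ple; omega))
    omega

/-- exceptional groups of Lie type and sporadic groups -/
theorem bd_exc (hX : Cross.{u}) (hT : ∀ c : ℕ, ∃ F : ℕ, ∀ {G : Type u} [Group G] [Finite G] (S A Q : Subgroup G) (g : G),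
      Cfg c 2 S A Q g → A ⊓ S ≠ ⊥ → Lie.Iso2F4 S → Nat.card S ≤ F) (c : ℕ) :
    Bd.{u} c (fun S _ => IsExceptionalLieType S ∨ IsSporadicGroup S) := by
  obtain ⟨F₁, hF₁⟩ := filt_bound.{u} c
  obtain ⟨F₂, hF₂⟩ := hX c 248
  obtain ⟨F₃, hF₃⟩ := hT c
  obtain ⟨F₄, hF₄⟩ := H415.SimsRk.sz_bound.{u} c
  obtain ⟨F₅, hF₅⟩ := H415.SimsRk.ree_bound.{u} c
  obtain ⟨F₆, hF₆⟩ := H36.Sims.Spor.spor_bound.{u}
  refine ⟨F₁ + F₂ + F₃ + F₄ + F₅ + F₆, ?_⟩
  intro G _ _ p S A Q g h1 h2 h3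
  have hle := card_inf_le A S
  by_cases h4 : IsSporadicGroup S ∨ Lie.IsoTits S
  · have := hF₆ h4
    omega
  push Not at h4
  obtain ⟨r, hr, hlie, hlin⟩ := H973.SimsLin.linDeg_exc (h3.resolve_right h4.1) h4.2
  by_cases hpr : p = r
  · subst hpr
    have key : IsLieFilt p S → Nat.card (A ⊓ S : Subgroup G) ≤ F₁ + F₂ + F₃ + F₄ + F₅ + F₆ := by
      intro h5
      have := hF₁ p S A Q g h1 h2 (hasFilt_of_lie h5)
      omega
    rcases hlie with h5 | h5 | h5 | h5 | h5 | h5 | h5 | h5 | ⟨rfl, h5⟩ | ⟨rfl, h5⟩ | ⟨rfl, h5⟩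
    · exact key (Or.inl h5)
    · exact key (Or.inr (Or.inl h5))
    · exact key (Or.inr (Or.inr (Or.inl h5)))
    · exact key (Or.inr (Or.inr (Or.inr (Or.inl h5))))
    · exact key (Or.inr (Or.inr (Or.inr (Or.inr (Or.inl h5)))))
    · exact key (Or.inr (Or.inr (Or.inr (Or.inr (Or.inr (Or.inl h5))))))
    · exact key (Or.inr (Or.inr (Or.inr (Or.inr (Or.inr (Or.inr (Or.inl h5)))))))
    · exact key (Or.inr (Or.inr (Or.inr (Or.inr (Or.inr (Or.inr (Or.inr h5)))))))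
    · have := hF₄ S A Q g h1 h2 h5
      omega
    · have := hF₃ S A Q g h1 h2 h5
      omega
    · have := hF₅ S A Q g h1 h2 h5
      omega
  · have := hF₂ p r S A Q g h1 hr hpr hlin
    omega

/-- **The almost simple case.** -/
theorem as_bound (hC : FormsCore) (hX : Cross.{u})
    (hT : ∀ c : ℕ, ∃ F : ℕ, ∀ {G : Type u} [Group G] [Finite G] (S A Q : Subgroup G) (g : G),
      Cfg c 2 S A Q g → A ⊓ S ≠ ⊥ → Lie.Iso2F4 S → Nat.card S ≤ F)
    (hK : ∀ (S : Type u) [Group S] [Finite S] [IsSimpleGroup S], IsKnownSimple' S) (c : ℕ) :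
    ∃ F : ℕ, ∀ {G : Type u} [Group G] [Finite G] (p : ℕ) (S A Q : Subgroup G) (g : G),
      Cfg c p S A Q g → Nat.card (A ⊓ S : Subgroup G) ≤ F := by
  obtain ⟨F, hF⟩ := ((((((((bd_alt.{u} c).or (Bd.of_fam hX (fam_psl c))).or (Bd.of_fam hX (fam_psp c hC))).or
    (Bd.of_fam hX (fam_psu c hC))).or (Bd.of_fam hX (fam_odd c hC))).or (Bd.of_fam hX (fam_plus c hC))).or
    (Bd.of_fam hX (fam_minus c hC))).or (bd_exc hX hT c))
  refine ⟨F + 1, ?_⟩
  intro G _ _ p S A Q g h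
  by_cases hAS : A ⊓ S = ⊥
  · rw [hAS, Subgroup.card_bot]; omega
  refine le_trans (hF p S A Q g h hAS ?_) (Nat.le_succ _)
  have := h.simple
  rcases hK ↥S with h1 | h1 | h1 | h1 | h1 | h1 | h1 | h1 | h1 | h1
  · exfalso
    have hfact : Fact (Nat.Prime (Nat.card ↥S)) := ⟨h1⟩
    obtain ⟨a, ha, b, hb, hab⟩ := h.nonab
    have hcyc : IsCyclic ↥S := isCyclic_of_prime_card (p := Nat.card ↥S) rfl
    let _ : CommGroup ↥S := IsCyclic.commGroup
    exact hab (congrArg Subtype.val (mul_comm (⟨a, ha⟩ : ↥S) ⟨b, hb⟩))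
  · exact Or.inl (Or.inl (Or.inl (Or.inl (Or.inl (Or.inl (Or.inl h1))))))
  · exact Or.inl (Or.inl (Or.inl (Or.inl (Or.inl (Or.inl (Or.inr h1))))))
  · exact Or.inl (Or.inl (Or.inl (Or.inl (Or.inl (Or.inr h1)))))
  · exact Or.inl (Or.inl (Or.inl (Or.inl (Or.inr h1))))
  · exact Or.inl (Or.inl (Or.inl (Or.inr h1)))
  · exact Or.inl (Or.inl (Or.inr h1))
  · exact Or.inl (Or.inr h1)
  · exact Or.inr (Or.inl h1)
  · exact Or.inr (Or.inr h1)

end Cfsg.Agent.H851.Sims
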